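import Groth.Agent.H19.Veronese.RegQuot
import Groth.Agent.Lib.Goren.Artin
import Groth.Agent.Lib.InjHull.BaseChange
import Groth.Agent.Lib.Depth.Local
import Mathlib.RingTheory.Regular.Flat
import Mathlib.RingTheory.Ideal.Quotient.Operations

/-!
# The socle of an Artinian reduction
-/

set_option autoImplicit false
set_option linter.style.haveILetI false

universe u

open CategoryTheory IsLocalRing RingTheory.Sequence
open Groth.Agent.Lib

namespace Groth.Agent.H19.Veronese.Local

section Length

variable {A B : Type u} [CommRing A] [CommRing B] {M M' : Type u} [AddCommGroup M] [Module A M]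
  [AddCommGroup M'] [Module B M']

/-- Modules with the same submodules have the same length. -/
theorem length_congr (e : M ≃+ M') (h₁ : ∀ a : A, ∃ b : B, ∀ x, e (a • x) = b • e x)
    (h₂ : ∀ b : B, ∃ a : A, ∀ x, e (a • x) = b • e x) : Module.length A M = Module.length B M' := by
  let to' : Submodule A M → Submodule B M' := fun N ↦
    { carrier := e '' N
      add_mem' := by
        rintro _ _ ⟨x, hx, rfl⟩ ⟨y, hy, rfl⟩
        exact ⟨x + y, N.add_mem hx hy, map_add e x y⟩
      zero_mem' := ⟨0, N.zero_mem, map_zero e⟩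
      smul_mem' := by
        rintro b _ ⟨x, hx, rfl⟩
        obtain ⟨a, ha⟩ := h₂ b
        exact ⟨a • x, N.smul_mem a hx, ha x⟩ }
  let from' : Submodule B M' → Submodule A M := fun N ↦
    { carrier := e ⁻¹' N
      add_mem' := fun {x y} hx hy ↦ show e (x + y) ∈ N by rw [map_add]; exact N.add_mem hx hy
      zero_mem' := show e 0 ∈ N by rw [map_zero]; exact N.zero_mem
      smul_mem' := fun a x hx ↦ show e (a • x) ∈ N by
        obtain ⟨b, hb⟩ := h₁ a
        rw [hb]
        exact N.smul_mem b hx }
  let o : Submodule A M ≃o Submodule B M' :=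
    { toFun := to'
      invFun := from'
      left_inv := fun N ↦ SetLike.coe_injective (e.injective.preimage_image (N : Set M))
      right_inv := fun N ↦ SetLike.coe_injective (e.surjective.image_preimage (N : Set M'))
      map_rel_iff' := fun {N N'} ↦ ⟨fun h x hx ↦ by
          obtain ⟨y, hy, hyx⟩ := h ⟨x, hx, rfl⟩
          exact e.injective hyx ▸ hy, fun h ↦ by
          rintro _ ⟨x, hx, rfl⟩
          exact ⟨x, h hx, rfl⟩⟩ }
  apply WithBot.coe_injective
  rw [Module.coe_length, Module.coe_length]
  exact Order.krullDim_eq_of_orderIso o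

/-- The parts killed by an ideal, under a semilinear equivalence. -/
theorem length_torsion_congr (g : A →+* B) (I : Ideal A) (hg : ∀ b, ∃ a, b - g a ∈ I.map g)
    (e : M ≃+ M') (he : ∀ a x, e (a • x) = g a • e x) :
    Module.length A (LocCoh.torsionBy I M) = Module.length B (LocCoh.torsionBy (I.map g) M') := by
  have hiff : ∀ x, x ∈ LocCoh.torsionBy I M ↔ e x ∈ LocCoh.torsionBy (I.map g) M' := by
    intro x
    rw [Submodule.mem_torsionBySet_iff, Submodule.mem_torsionBySet_iff]
    constructor
    · intro h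
      have hle : I.map g ≤ (⊥ : Submodule B M').colon {e x} := Ideal.map_le_iff_le_comap.2 fun a ha ↦ by
        rw [Ideal.mem_comap, Submodule.mem_colon_singleton, Submodule.mem_bot, ← he, h ⟨a, ha⟩,
          map_zero]
      exact fun b ↦ (Submodule.mem_bot B).1 (Submodule.mem_colon_singleton.1 (hle b.2))
    · intro h a
      apply e.injective
      rw [he, map_zero]
      exact h ⟨g a, Ideal.mem_map_of_mem g a.2⟩
  let e' : LocCoh.torsionBy I M ≃+ LocCoh.torsionBy (I.map g) M' :=
    { toFun := fun x ↦ ⟨e x, (hiff x).1 x.2⟩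
      invFun := fun y ↦ ⟨e.symm y, (hiff _).2 (by rw [e.apply_symm_apply]; exact y.2)⟩
      left_inv := fun x ↦ Subtype.ext (e.symm_apply_apply x.1)
      right_inv := fun y ↦ Subtype.ext (e.apply_symm_apply y.1)
      map_add' := fun x y ↦ Subtype.ext (map_add e x.1 y.1) }
  refine length_congr e' (fun a ↦ ⟨g a, fun x ↦ Subtype.ext (he a x.1)⟩) fun b ↦ ?_
  obtain ⟨a, ha⟩ := hg b
  refine ⟨a, fun x ↦ Subtype.ext ?_⟩
  show e (a • x.1) = b • e x.1
  rw [he, eq_comm, ← sub_eq_zero, ← sub_smul]
  exact (Submodule.mem_torsionBySet_iff _ _).1 ((hiff x).1 x.2) ⟨_, ha⟩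

end Length

section Ext

variable {R : Type u} [CommRing R] [IsNoetherianRing R] (m : Ideal R) [m.IsMaximal] (L : List R)

/-- At a maximal ideal a regular sequence with primary span computes `Ext^{length}(k, A)` as the
socle of the quotient. -/
theorem length_ext (hmem : ∀ x ∈ L, x ∈ m) (hreg : IsWeaklyRegular R L) {N : ℕ}
    (hN : m ^ N ≤ Ideal.ofList L) :
    (∀ i < L.length, Subsingleton (Abelian.Ext.{u}
      (ModuleCat.of (Localization.AtPrime m) (ResidueField (Localization.AtPrime m)))
      (ModuleCat.of (Localization.AtPrime m) (Localization.AtPrime m)) i)) ∧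
    Module.length (Localization.AtPrime m) (Abelian.Ext.{u}
      (ModuleCat.of (Localization.AtPrime m) (ResidueField (Localization.AtPrime m)))
      (ModuleCat.of (Localization.AtPrime m) (Localization.AtPrime m)) L.length) =
      Module.length R (LocCoh.torsionBy m (R ⧸ Ideal.ofList L)) ∧
    Module.length (Localization.AtPrime m) (LocCoh.torsionBy (maximalIdeal (Localization.AtPrime m))
        (Localization.AtPrime m ⧸ Ideal.ofList (L.map (algebraMap R (Localization.AtPrime m))))) =
      Module.length R (LocCoh.torsionBy m (R ⧸ Ideal.ofList L)) := by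
  let A := Localization.AtPrime m
  let La := L.map (algebraMap R A)
  have hregA : IsWeaklyRegular A La := hreg.of_isLocalization A m.primeCompl
  have hmemA : ∀ x ∈ La, x ∈ maximalIdeal A := fun x hx ↦ by
    obtain ⟨r, hr, rfl⟩ := List.mem_map.1 hx
    exact (IsLocalization.AtPrime.to_map_mem_maximal_iff A m r).2 (hmem r hr)
  have hlow : ∀ i < La.length, Subsingleton (Abelian.Ext.{u} (ModuleCat.of A (ResidueField A))
      (ModuleCat.of A A) i) :=
    (Depth.Ext.le_depth_iff_ext A La.length).1 (Depth.Basic.length_le_idealDepth hregA hmemA)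
  have hJA : Ideal.ofList La = (Ideal.ofList L).map (algebraMap R A) :=
    (Ideal.map_ofList _ L).symm
  -- the quotient is already local
  let ψ : R →+* A ⧸ Ideal.ofList La := (Ideal.Quotient.mk _).comp (algebraMap R A)
  have hunit : ∀ s ∉ m, ∃ v, 1 - v * s ∈ Ideal.ofList L := by
    intro s hs
    obtain ⟨v, j, hj, hv⟩ := Ideal.IsMaximal.exists_inv (I := m) inferInstance hs
    refine ⟨v * ∑ i ∈ Finset.range N, j ^ i, hN ?_⟩
    rw [show 1 - (v * ∑ i ∈ Finset.range N, j ^ i) * s = j ^ N by
      have h1 := geom_sum_mul_neg j N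
      rw [show (1 : R) - j = v * s by rw [← hv, add_sub_cancel_right]] at h1
      linear_combination -h1]
    exact Ideal.pow_mem_pow hj N
  have hker : RingHom.ker ψ = Ideal.ofList L := by
    refine le_antisymm (fun x hx ↦ ?_) fun x hx ↦ ?_
    · rw [RingHom.mem_ker, RingHom.comp_apply, Ideal.Quotient.eq_zero_iff_mem, hJA,
        IsLocalization.algebraMap_mem_map_algebraMap_iff m.primeCompl] at hx
      obtain ⟨s, hs, hsx⟩ := hx
      obtain ⟨v, hv⟩ := hunit s hs
      have : x = (1 - v * s) * x + v * (s * x) := by ring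
      rw [this]
      exact add_mem (Ideal.mul_mem_right _ _ hv) (Ideal.mul_mem_left _ _ hsx)
    · rw [RingHom.mem_ker, RingHom.comp_apply, Ideal.Quotient.eq_zero_iff_mem, hJA]
      exact Ideal.mem_map_of_mem _ hx
  have hsurj : Function.Surjective ψ := by
    intro z
    obtain ⟨a, rfl⟩ := Ideal.Quotient.mk_surjective z
    obtain ⟨r, s, rfl⟩ := IsLocalization.exists_mk'_eq m.primeCompl a
    obtain ⟨v, hv⟩ := hunit s s.2
    refine ⟨v * r, Ideal.Quotient.eq.2 ?_⟩
    rw [hJA, show algebraMap R A (v * r) - IsLocalization.mk' A r s =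
      algebraMap R A (-(1 - v * s)) * IsLocalization.mk' A r s by
        rw [map_neg, map_sub, map_one, map_mul, map_mul]
        linear_combination (-(algebraMap R A v)) * IsLocalization.mk'_spec A r s]
    exact Ideal.mul_mem_right _ _ (Ideal.mem_map_of_mem _ (neg_mem hv))
  let e : (R ⧸ Ideal.ofList L) ≃+ A ⧸ Ideal.ofList La :=
    ((Ideal.quotEquivOfEq hker.symm).trans (RingHom.quotientKerEquivOfSurjective hsurj)).toAddEquiv
  have he : ∀ (a : R) (x : R ⧸ Ideal.ofList L), e (a • x) = algebraMap R A a • e x := fun a x ↦ by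
    obtain ⟨y, rfl⟩ := Ideal.Quotient.mk_surjective x
    show ψ (a * y) = Ideal.Quotient.mk _ (algebraMap R A a) * ψ y
    rw [map_mul]
    rfl
  have hmax : m.map (algebraMap R A) = maximalIdeal A := Localization.AtPrime.map_eq_maximalIdeal
  have hsoc : Module.length R (LocCoh.torsionBy m (R ⧸ Ideal.ofList L)) =
      Module.length A (LocCoh.torsionBy (maximalIdeal A) (A ⧸ Ideal.ofList La)) := by
    rw [length_torsion_congr (algebraMap R A) m (fun b ↦ ?_) e he, hmax]
    obtain ⟨r, s, rfl⟩ := IsLocalization.exists_mk'_eq m.primeCompl b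
    obtain ⟨v, j, hj, hv⟩ := Ideal.IsMaximal.exists_inv (I := m) inferInstance s.2
    refine ⟨v * r, ?_⟩
    rw [show IsLocalization.mk' A r s - algebraMap R A (v * r) =
      algebraMap R A j * IsLocalization.mk' A r s by
        have h1 := congrArg (algebraMap R A) hv
        rw [map_add, map_mul, map_one] at h1
        rw [map_mul]
        linear_combination (algebraMap R A v) * IsLocalization.mk'_spec A r s -
          IsLocalization.mk' A r s * h1]
    exact Ideal.mul_mem_right _ _ (Ideal.mem_map_of_mem _ hj)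
  refine ⟨fun i hi ↦ hlow i (by rwa [List.length_map]), ?_, hsoc.symm⟩
  have h := RegQuot.length_hom_quot La A hmemA hregA hlow
  rw [List.length_map] at h
  rw [← h, hsoc]
  refine (LinearEquiv.trans (LinearEquiv.congrRight
    (Submodule.quotEquivOfEq _ _ (by rw [smul_eq_mul, Ideal.mul_top])))
    (InjHull.BaseChange.homQuotientEquiv (maximalIdeal A) (A ⧸ Ideal.ofList La))).length_eq

end Ext

section Gorenstein

/-- A local ring with a regular sequence cutting out an Artinian quotient with simple socle is
Gorenstein. -/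
theorem isGorensteinLocalRing : ∀ (L : List _) (A : Type u) [CommRing A] [IsNoetherianRing A]
    [IsLocalRing A] (f : ℕ → A), (∀ x ∈ L.map f, x ∈ maximalIdeal A) → IsWeaklyRegular A (L.map f) →
    (∃ N, maximalIdeal A ^ N ≤ Ideal.ofList (L.map f)) →
    Module.length A (LocCoh.torsionBy (maximalIdeal A) (A ⧸ Ideal.ofList (L.map f))) = 1 →
    LocCoh.IsGorensteinLocalRing A := by
  intro L
  induction L with
  | nil =>
    intro A _ _ _ f _ _ ⟨N, hN⟩ hs
    rw [List.map_nil, Ideal.ofList_nil] at hN
    have : IsArtinianRing A := (isFiniteLength_iff_isNoetherian_isArtinian.1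
      (InjHull.Complete.isFiniteLength_of_pow_smul (maximalIdeal A) N A fun x c hc ↦ by
        rw [(Submodule.mem_bot A).1 (hN hc), zero_smul])).2
    refine Goren.Artin.isGorensteinLocalRing_iff_socle.2 (Eq.trans ?_ hs)
    exact (Goren.Artin.torsionCongr _
      (Submodule.quotEquivOfEqBot (Ideal.ofList (List.map f [])) (Ideal.ofList_nil)).symm).length_eq
  | cons i L ih =>
    intro A _ _ _ f hmem hreg ⟨N, hN⟩ hs
    rw [List.map_cons] at hmem hreg hN hs
    obtain ⟨hx, hmem⟩ := List.forall_mem_cons.1 hmem
    rw [isWeaklyRegular_cons_iff] at hreg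
    have := Goren.Basic.isLocalRing_quotient_span hx
    refine (Goren.Basic.isGorensteinLocalRing_quotient_iff hx hreg.1).2 ?_
    let A₁ := A ⧸ Ideal.span {f i}
    let π : A →+* A₁ := Ideal.Quotient.mk _
    have hmax : (maximalIdeal A).map π = maximalIdeal A₁ :=
      ((IsLocalRing.map_maximalIdeal_of_surjective π Ideal.Quotient.mk_surjective))
    have hlist : (L.map f).map π = L.map (π ∘ f) := List.map_map
    refine ih A₁ (π ∘ f) (fun x hx' ↦ ?_) ?_ ⟨N, ?_⟩ ?_
    · obtain ⟨j, hj, rfl⟩ := List.mem_map.1 hx'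
      rw [← hmax]
      exact Ideal.mem_map_of_mem π (hmem _ (List.mem_map_of_mem hj))
    · rw [← hlist]
      refine ((isWeaklyRegular_map_algebraMap_iff A₁ A₁ (L.map f)).2 ?_)
      refine ((Submodule.quotEquivOfEq _ _ ?_).isWeaklyRegular_congr _).1 hreg.2
      rw [← Submodule.ideal_span_singleton_smul, smul_eq_mul, Ideal.mul_top]
    · rw [← hlist, ← Ideal.map_ofList, ← hmax, ← Ideal.map_pow]
      refine (Ideal.map_mono hN).trans (le_of_eq ?_)
      rw [Ideal.ofList_cons, Ideal.map_sup, Ideal.map_quotient_self, bot_sup_eq]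
    · rw [← hlist, ← Ideal.map_ofList, ← hmax]
      rw [Ideal.ofList_cons] at hs
      refine Eq.trans (length_torsion_congr π (maximalIdeal A) (fun b ↦ ?_)
        (DoubleQuot.quotQuotEquivQuotSup (Ideal.span {f i})
          (Ideal.ofList (L.map f))).symm.toAddEquiv ?_).symm hs
      · obtain ⟨a, rfl⟩ := Ideal.Quotient.mk_surjective b
        exact ⟨a, by rw [sub_self]; exact zero_mem _⟩
      · intro a x
        obtain ⟨y, rfl⟩ := Ideal.Quotient.mk_surjective x
        rfl

end Gorenstein

end Groth.Agent.H19.Veronese.Local
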