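import Groth.Agent.H19.Veronese.Standard

/-!
# A piece of dimension at most one in a standard graded ring of positive depth
-/

set_option autoImplicit false
set_option linter.unusedSectionVars false
set_option linter.overlappingInstances false
set_option linter.style.haveILetI false

universe u

open Groth.Agent.Lib Groth.Agent.Lib.Graded Groth.Agent.Lib.Graded.Basic

namespace Groth.Agent.H19.Veronese.Macaulay

variable {R : Type u} [CommRing R] {𝒜 : ℤ → AddSubgroup R} [GradedRing 𝒜]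
  (hpos : ∀ n : ℤ, n < 0 → 𝒜 n = ⊥) (h0 : IsField (GrLC.deg0 𝒜))
  (hstd : Ideal.span (⋃ n ∈ Set.Ioi (0 : ℤ), (𝒜 n : Set R)) = Ideal.span ((𝒜 1 : AddSubgroup R) : Set R))

include hstd in
/-- A piece of positive degree is generated by products with degree one. -/
theorem mem_of_std {i : ℤ} (hi : 0 ≤ i) (S : AddSubmonoid R)
    (hS : ∀ a ∈ 𝒜 1, ∀ b ∈ 𝒜 i, b * a ∈ S) {x : R} (hx : x ∈ 𝒜 (i + 1)) : x ∈ S := by
  have hmem : x ∈ Ideal.span ((𝒜 1 : AddSubgroup R) : Set R) :=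
    hstd ▸ Ideal.subset_span (Set.mem_iUnion₂.2 ⟨_, show (0 : ℤ) < i + 1 by omega, hx⟩)
  have key : ∀ y ∈ Ideal.span ((𝒜 1 : AddSubgroup R) : Set R), ∀ c : R,
      proj 𝒜 (i + 1) (c * y) ∈ S := by
    intro y hy
    induction hy using Submodule.span_induction with
    | mem a ha =>
      intro c
      rw [show c * a = c • a from rfl, proj_smul_mem 𝒜 𝒜 ha, smul_eq_mul, add_sub_cancel_right]
      exact hS a ha _ (proj_mem 𝒜 i c)
    | zero => intro c; rw [mul_zero, map_zero]; exact S.zero_mem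
    | add x y _ _ hx hy => intro c; rw [mul_add, map_add]; exact S.add_mem (hx c) (hy c)
    | smul a x _ hx => intro c; rw [smul_eq_mul, ← mul_assoc]; exact hx _
  have := key x hmem 1
  rwa [one_mul, proj_of_mem 𝒜 hx] at this

variable (𝒜) in
/-- The piece of degree `j` is spanned by one element. -/
def IsCyclic (j : ℤ) : Prop := ∃ z ∈ 𝒜 j, ∀ x ∈ 𝒜 j, ∃ c ∈ 𝒜 0, x = c * z

include hstd h0 in
/-- A cyclic piece of positive degree makes the next one cyclic. -/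
theorem isCyclic_succ {j : ℤ} (hj : 1 ≤ j) (h : IsCyclic 𝒜 j) : IsCyclic 𝒜 (j + 1) := by
  obtain ⟨z, hz, hgen⟩ := h
  have hspan : ∀ z' : R, ∀ x, (∀ a ∈ 𝒜 1, ∀ b ∈ 𝒜 j, ∃ c ∈ 𝒜 0, b * a = c * z') →
      x ∈ 𝒜 (j + 1) → ∃ c ∈ 𝒜 0, x = c * z' := fun z' x hS hx ↦
    mem_of_std hstd (by omega : 0 ≤ j)
      { carrier := {x | ∃ c ∈ 𝒜 0, x = c * z'}
        add_mem' := by
          rintro _ _ ⟨c, hc, rfl⟩ ⟨d, hd, rfl⟩
          exact ⟨c + d, add_mem hc hd, (add_mul c d z').symm⟩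
        zero_mem' := ⟨0, zero_mem _, (zero_mul z').symm⟩ } hS hx
  by_cases hne : ∃ a ∈ 𝒜 1, ∃ b ∈ 𝒜 (j - 1), b * a ≠ 0
  · obtain ⟨a, ha, b, hb, hab⟩ := hne
    have habm : b * a ∈ 𝒜 j := by
      rw [show j = j - 1 + 1 by ring]; exact SetLike.mul_mem_graded hb ha
    obtain ⟨c₀, hc₀, hbc⟩ := hgen _ habm
    obtain ⟨d, hd⟩ := h0.mul_inv_cancel (show (⟨c₀, hc₀⟩ : GrLC.deg0 𝒜) ≠ 0 from fun hh ↦ hab (by
      rw [hbc, show c₀ = 0 from congrArg Subtype.val hh, zero_mul]))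
    have hd' : c₀ * (d : R) = 1 := congrArg Subtype.val hd
    refine ⟨z * a, SetLike.mul_mem_graded hz ha, fun x hx ↦ hspan _ x ?_ hx⟩
    intro a' ha' b' hb'
    obtain ⟨c, hc, rfl⟩ := hgen b' hb'
    have hba' : b * a' ∈ 𝒜 j := by
      rw [show j = j - 1 + 1 by ring]; exact SetLike.mul_mem_graded hb ha'
    obtain ⟨c', hc', hba⟩ := hgen _ hba'
    refine ⟨c * (d : R) * c', ?_, ?_⟩
    · have h1 := SetLike.mul_mem_graded (A := 𝒜) (SetLike.mul_mem_graded hc d.2) hc'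
      simpa using h1
    · linear_combination (-(c * z * a')) * hd' - (c * (d : R) * a') * hbc + (c * (d : R) * a) * hba
  · push Not at hne
    refine ⟨0, zero_mem _, fun x hx ↦ hspan _ x ?_ hx⟩
    intro a' ha' b' hb'
    refine ⟨0, zero_mem _, ?_⟩
    have hb0 : b' = 0 := by
      have := mem_of_std hstd (by omega : 0 ≤ j - 1) (⊥ : AddSubmonoid R)
        (fun a ha b hb ↦ hne a ha b hb) (show b' ∈ 𝒜 (j - 1 + 1) by rwa [sub_add_cancel])
      exact this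
    rw [hb0]
    simp

include hpos h0 hstd in
/-- With a regular element of positive degree, a piece of dimension at most one in positive degree
forces dimension at most one in degree one. -/
theorem finrank_one_le {k : ℤ} (hk : 0 < k) {r : R} (hr : r ∈ 𝒜 k) (hreg : IsSMulRegular R r)
    {ρ : ℤ} (hρ : 1 ≤ ρ) [Module.Finite (GrLC.deg0 𝒜) (GrLC.comp 𝒜 𝒜 ρ)]
    (h1 : Module.finrank (GrLC.deg0 𝒜) (GrLC.comp 𝒜 𝒜 ρ) ≤ 1) :
    Module.finrank (GrLC.deg0 𝒜) (GrLC.comp 𝒜 𝒜 1) ≤ 1 := by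
  classical
  letI := h0.toField
  have hρc : IsCyclic 𝒜 ρ := by
    obtain ⟨v, hv⟩ := finrank_le_one_iff.1 h1
    refine ⟨v.1, v.2, fun x hx ↦ ?_⟩
    obtain ⟨c, hc⟩ := hv ⟨x, hx⟩
    exact ⟨c.1, c.2, (congrArg Subtype.val hc).symm⟩
  have hall : ∀ e : ℕ, IsCyclic 𝒜 (ρ + e) := by
    intro e
    induction e with
    | zero => simpa using hρc
    | succ e ih =>
      rw [Nat.cast_succ, ← add_assoc]
      exact isCyclic_succ h0 hstd (by omega) ih
  -- a regular element of degree at least `ρ - 1`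
  have hρk : ρ ≤ 1 + (ρ.toNat : ℤ) * k := by
    have h2 : (ρ.toNat : ℤ) * 1 ≤ (ρ.toNat : ℤ) * k :=
      mul_le_mul_of_nonneg_left hk (Int.natCast_nonneg _)
    rw [mul_one] at h2
    have h3 : (ρ.toNat : ℤ) = ρ := Int.toNat_of_nonneg (by omega)
    linarith
  obtain ⟨e, he⟩ := Int.le.dest hρk
  obtain ⟨z, hz, hgen⟩ := hall e
  have hrN : r ^ ρ.toNat ∈ 𝒜 ((ρ.toNat : ℤ) * k) := by
    simpa [nsmul_eq_mul] using SetLike.pow_mem_graded (A := 𝒜) ρ.toNat hr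
  have hmul : ∀ x ∈ 𝒜 1, ∃ c ∈ 𝒜 0, r ^ ρ.toNat * x = c * z := fun x hx ↦ hgen _ (by
    rw [he, add_comm 1]
    exact SetLike.mul_mem_graded hrN hx)
  by_cases hne : ∃ x ∈ 𝒜 1, x ≠ 0
  · obtain ⟨x₀, hx₀, hx₀ne⟩ := hne
    obtain ⟨c₀, hc₀, hxc⟩ := hmul x₀ hx₀
    obtain ⟨d, hd⟩ := h0.mul_inv_cancel (show (⟨c₀, hc₀⟩ : GrLC.deg0 𝒜) ≠ 0 from fun hh ↦ hx₀ne
      ((hreg.pow _).right_eq_zero_of_smul (by
        rw [smul_eq_mul, hxc, show c₀ = 0 from congrArg Subtype.val hh, zero_mul])))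
    have hd' : c₀ * (d : R) = 1 := congrArg Subtype.val hd
    refine finrank_le_one (⟨x₀, hx₀⟩ : GrLC.comp 𝒜 𝒜 1) fun x ↦ ?_
    obtain ⟨c, hc, hxc'⟩ := hmul x.1 x.2
    refine ⟨⟨c * (d : R), show c * (d : R) ∈ 𝒜 0 by
        simpa using SetLike.mul_mem_graded (A := 𝒜) hc d.2⟩,
      Subtype.ext (hreg.pow ρ.toNat ?_)⟩
    show r ^ ρ.toNat * (c * (d : R) * x₀) = r ^ ρ.toNat * x.1
    linear_combination (c * (d : R)) * hxc + (c * z) * hd' - hxc'
  · push Not at hne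
    refine finrank_le_one 0 fun x ↦ ⟨0, Subtype.ext ?_⟩
    simpa using (hne x.1 x.2).symm

end Groth.Agent.H19.Veronese.Macaulay
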