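import Groth.Agent.Lib.Graded.Basic
import Groth.Prelude.Def_GrLC
import Mathlib.RingTheory.Noetherian.Basic
import Mathlib.Algebra.Field.Equiv

/-!
# Veronese subrings of graded rings
-/

set_option autoImplicit false
set_option linter.unusedSectionVars false

universe u

open Groth.Agent.Lib.Graded Groth.Agent.Lib.Graded.Basic

namespace Groth.Agent.H19.Veronese

variable {R R' : Type u} [CommRing R] [CommRing R'] {𝒜 : ℤ → AddSubgroup R} [GradedRing 𝒜]
  {𝒜' : ℤ → AddSubgroup R'} [GradedRing 𝒜'] {q : ℕ} {φ : R' →+* R}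

variable (𝒜 𝒜' q φ) in
/-- `R'` is the Veronese subring `R^(q)`, through `φ`. -/
structure IsVeronese : Prop where
  pos : 0 < q
  injective : Function.Injective φ
  deg : ∀ j : ℤ, (𝒜' j).map (φ : R' →+ R) = 𝒜 (j * q)

namespace IsVeronese

variable (h : IsVeronese 𝒜 𝒜' q φ)
include h

theorem map_mem {j : ℤ} {a : R'} (ha : a ∈ 𝒜' j) : φ a ∈ 𝒜 (j * q) := h.deg j ▸ ⟨a, ha, rfl⟩

theorem exists_preimage {j : ℤ} {r : R} (hr : r ∈ 𝒜 (j * q)) : ∃ a ∈ 𝒜' j, φ a = r := by
  rw [← h.deg j] at hr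
  exact hr

theorem exists_preimage_of_dvd {g : ℤ} (hg : (q : ℤ) ∣ g) {r : R} (hr : r ∈ 𝒜 g) :
    ∃ a ∈ 𝒜' (g / q), φ a = r :=
  h.exists_preimage (by rwa [Int.ediv_mul_cancel hg])

theorem q_ne_zero : (q : ℤ) ≠ 0 := by exact_mod_cast h.pos.ne'

theorem map_proj (j : ℤ) (a : R') : φ (proj 𝒜' j a) = proj 𝒜 (j * q) (φ a) := by
  induction a using induction_hom 𝒜' with
  | zero => simp
  | hom i a ha =>
    rcases eq_or_ne i j with rfl | hne
    · rw [proj_of_mem 𝒜' ha, proj_of_mem 𝒜 (h.map_mem ha)]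
    · rw [proj_of_mem_ne 𝒜' ha hne, map_zero, proj_of_mem_ne 𝒜 (h.map_mem ha)]
      exact fun hc ↦ hne (mul_right_cancel₀ h.q_ne_zero hc)
  | add a b ha hb => simp only [map_add, ha, hb]

theorem mem_of_map_mem {j : ℤ} {a : R'} (ha : φ a ∈ 𝒜 (j * q)) : a ∈ 𝒜' j := by
  have : proj 𝒜' j a = a := h.injective ((h.map_proj j a).trans (proj_of_mem 𝒜 ha))
  exact this ▸ proj_mem 𝒜' j a

theorem eq_zero_of_neg (hpos : ∀ n : ℤ, n < 0 → 𝒜 n = ⊥) : ∀ j : ℤ, j < 0 → 𝒜' j = ⊥ := by
  intro j hj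
  rw [AddSubgroup.eq_bot_iff_forall]
  intro a ha
  have h1 := h.map_mem ha
  rw [hpos _ (mul_neg_of_neg_of_pos hj (by exact_mod_cast h.pos)), AddSubgroup.mem_bot] at h1
  exact h.injective (h1.trans φ.map_zero.symm)

/-- The degree-zero parts agree. -/
noncomputable def deg0Equiv : GrLC.deg0 𝒜' ≃+* GrLC.deg0 𝒜 :=
  RingEquiv.ofBijective (show GrLC.deg0 𝒜' →+* GrLC.deg0 𝒜 from
    { toFun := fun a ↦ ⟨φ a, show φ a ∈ 𝒜 0 by simpa using h.map_mem (j := 0) a.2⟩
      map_one' := Subtype.ext φ.map_one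
      map_mul' := fun a b ↦ Subtype.ext (φ.map_mul a b)
      map_zero' := Subtype.ext φ.map_zero
      map_add' := fun a b ↦ Subtype.ext (φ.map_add a b) })
    ⟨fun a b hab ↦ Subtype.ext (h.injective (congrArg Subtype.val hab)), fun r ↦ by
      obtain ⟨a, ha, har⟩ := h.exists_preimage (j := 0) (r := r.1) (by rw [zero_mul]; exact r.2)
      exact ⟨⟨a, ha⟩, Subtype.ext har⟩⟩

theorem coe_deg0Equiv (a : GrLC.deg0 𝒜') : ((h.deg0Equiv a : GrLC.deg0 𝒜) : R) = φ a := rfl

theorem isField_deg0 (h0 : IsField (GrLC.deg0 𝒜)) : IsField (GrLC.deg0 𝒜') :=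
  MulEquiv.isField h0 h.deg0Equiv.toMulEquiv

/-- A projection of `R` onto the Veronese subring. -/
theorem exists_retraction : ∃ π : R →+ R', (∀ a, π (φ a) = a) ∧ ∀ a r, π (φ a * r) = a * π r := by
  classical
  let ψ : ∀ g, 𝒜 g →+ R' := fun g ↦
    if hg : (q : ℤ) ∣ g then
      { toFun := fun r ↦ (h.exists_preimage_of_dvd hg r.2).choose
        map_zero' := h.injective (((h.exists_preimage_of_dvd hg (zero_mem _)).choose_spec.2).trans
          φ.map_zero.symm)
        map_add' := fun r s ↦ h.injective (by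
          rw [map_add, (h.exists_preimage_of_dvd hg r.2).choose_spec.2,
            (h.exists_preimage_of_dvd hg s.2).choose_spec.2,
            (h.exists_preimage_of_dvd hg (r + s).2).choose_spec.2]
          rfl) }
    else 0
  let π : R →+ R' := (DirectSum.toAddMonoid ψ).comp (DirectSum.decomposeAddEquiv 𝒜).toAddMonoidHom
  have hπ : ∀ g, ∀ r ∈ 𝒜 g, ((q : ℤ) ∣ g → φ (π r) = r) ∧ (¬ (q : ℤ) ∣ g → π r = 0) := by
    intro g r hr
    have : π r = ψ g ⟨r, hr⟩ := by
      show DirectSum.toAddMonoid ψ (DirectSum.decompose 𝒜 r) = _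
      rw [DirectSum.decompose_of_mem 𝒜 hr, DirectSum.toAddMonoid_of]
    refine ⟨fun hg ↦ ?_, fun hg ↦ ?_⟩
    · rw [this, show ψ g = _ from dif_pos hg]
      exact (h.exists_preimage_of_dvd hg hr).choose_spec.2
    · rw [this, show ψ g = _ from dif_neg hg]
      rfl
  have hφ : ∀ a, π (φ a) = a := fun a ↦ by
    induction a using induction_hom 𝒜' with
    | zero => simp
    | add a b ha hb => rw [map_add, map_add, ha, hb]
    | hom j a ha => exact h.injective ((hπ _ _ (h.map_mem ha)).1 (dvd_mul_left _ _))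
  refine ⟨π, hφ, fun a r ↦ ?_⟩
  induction a using induction_hom 𝒜' with
  | zero => simp
  | add a b ha hb => rw [map_add, add_mul, map_add, ha, hb, add_mul]
  | hom j a ha =>
    induction r using induction_hom 𝒜 with
    | zero => simp
    | add r s hr hs => rw [mul_add, map_add, hr, hs, map_add, mul_add]
    | hom g r hr =>
      have hm : φ a * r ∈ 𝒜 (j * q + g) := SetLike.mul_mem_graded (h.map_mem ha) hr
      have hiff : (q : ℤ) ∣ j * q + g ↔ (q : ℤ) ∣ g := dvd_add_right (dvd_mul_left _ _)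
      by_cases hg : (q : ℤ) ∣ g
      · refine h.injective ?_
        rw [(hπ _ _ hm).1 (hiff.2 hg), map_mul, (hπ _ _ hr).1 hg]
      · rw [(hπ _ _ hm).2 fun hc ↦ hg (hiff.1 hc), (hπ _ _ hr).2 hg, mul_zero]

/-- An ideal is the preimage of its extension. -/
theorem comap_map (I : Ideal R') : (I.map φ).comap φ = I := by
  refine le_antisymm (fun a ha ↦ ?_) Ideal.le_comap_map
  obtain ⟨π, hπ, hlin⟩ := h.exists_retraction
  rw [Ideal.mem_comap] at ha
  have key : ∀ x ∈ I.map φ, π x ∈ I := by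
    intro x hx
    have : ∀ y : R, π (y * x) ∈ I := by
      induction hx using Submodule.span_induction with
      | mem x hx =>
        obtain ⟨b, hb, rfl⟩ := hx
        intro y
        rw [mul_comm, hlin]
        exact I.mul_mem_right _ hb
      | zero => simp
      | add x z _ _ hx hz => intro y; rw [mul_add, map_add]; exact add_mem (hx y) (hz y)
      | smul c x _ hx => intro y; rw [smul_eq_mul, ← mul_assoc]; exact hx _
    simpa using this 1
  exact hπ a ▸ key _ ha

/-- The Veronese subring of a Noetherian ring is Noetherian. -/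
theorem isNoetherianRing [IsNoetherianRing R] : IsNoetherianRing R' := by
  have hmono : StrictMono fun I : Ideal R' ↦ I.map φ := fun I J hIJ ↦
    (Ideal.map_mono hIJ.le).lt_of_ne fun he ↦ hIJ.ne (by rw [← h.comap_map I, ← h.comap_map J, he])
  exact (isNoetherian_iff' (R := R') (M := R')).2 hmono.wellFoundedGT

end IsVeronese

end Groth.Agent.H19.Veronese
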