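import Groth.Agent.H19.Veronese.Local
import Groth.Agent.H19.Canon.OverField
import Groth.Agent.Lib.Goren.Global
import Groth.Agent.Lib.Graded.FieldDeg0

/-!
# A socle criterion for graded Gorenstein rings over a field
-/

set_option autoImplicit false
set_option linter.unusedSectionVars false
set_option linter.overlappingInstances false
set_option linter.style.haveILetI false

universe u

open CategoryTheory RingTheory.Sequence IsLocalRing
open Groth.Agent.Lib Groth.Agent.Lib.Graded Groth.Agent.Lib.Graded.Basic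

namespace Groth.Agent.H19.Veronese.Crit

variable {R : Type u} [CommRing R] [IsNoetherianRing R] {𝒜 : ℤ → AddSubgroup R} [GradedRing 𝒜]
  {m : HomogeneousIdeal 𝒜} (hpos : ∀ n : ℤ, n < 0 → 𝒜 n = ⊥) (h0 : IsField (GrLC.deg0 𝒜))
  (hmsp : m.toIdeal = Ideal.span (⋃ n ∈ Set.Ioi (0 : ℤ), (𝒜 n : Set R)))

include hpos h0 hmsp in
/-- A graded ring over a field with a regular sequence cutting out a quotient with simple socle is
Gorenstein. -/
theorem isGorensteinRing_of_socle [m.toIdeal.IsMaximal] (hm : GrLC.IsStarLocal 𝒜 m) (L : List R)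
    (hLm : ∀ x ∈ L, x ∈ m.toIdeal) (hreg : IsWeaklyRegular R L) {N : ℕ}
    (hN : m.toIdeal ^ N ≤ Ideal.ofList L)
    (hsoc : Module.length (Localization.AtPrime m.toIdeal)
      (LocCoh.torsionBy (maximalIdeal (Localization.AtPrime m.toIdeal)) (Localization.AtPrime m.toIdeal ⧸
        Ideal.ofList (L.map (algebraMap R (Localization.AtPrime m.toIdeal))))) = 1) :
    LocCoh.IsGorensteinRing R := by
  let A := Localization.AtPrime m.toIdeal
  have hA : LocCoh.IsGorensteinLocalRing A := by
    let La := L.map (algebraMap R A)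
    have hLa : (List.range La.length).map (fun i ↦ La.getD i 0) = La :=
      List.ext_getElem (by simp) fun i h1 h2 ↦ by
        simp [List.getD_eq_getElem?_getD, List.getElem?_eq_getElem h2]
    refine Local.isGorensteinLocalRing (List.range La.length) A (fun i ↦ La.getD i 0) ?_ ?_ ⟨N, ?_⟩ ?_
    · rw [hLa]
      intro x hx
      obtain ⟨r, hr, rfl⟩ := List.mem_map.1 hx
      exact (IsLocalization.AtPrime.to_map_mem_maximal_iff A m.toIdeal r).2 (hLm r hr)
    · rw [hLa]
      exact hreg.of_isLocalization A m.toIdeal.primeCompl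
    · rw [hLa, ← Localization.AtPrime.map_eq_maximalIdeal, ← Ideal.map_pow, ← Ideal.map_ofList]
      exact Ideal.map_mono hN
    · rw [hLa]
      exact hsoc
  obtain ⟨k, hk⟩ := hA.exists_hasInjectiveDimensionLT
  have hfin : m.toIdeal.height ≠ ⊤ := Ideal.height_ne_top (FieldDeg0.isMaximal hpos h0 hmsp).ne_top
  obtain ⟨d, hd⟩ := ENat.ne_top_iff_exists.1 hfin
  have hdim : ringKrullDim R ≤ ((max d k : ℕ) : WithBot ℕ∞) := by
    rw [FieldDeg0.ringKrullDim_eq hpos h0 hmsp, ← hd]
    exact_mod_cast le_max_left d k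
  have eR : LocalizedModule m.toIdeal.primeCompl R ≃ₗ[A] A :=
    (IsLocalizedModule.iso m.toIdeal.primeCompl (Algebra.linearMap R
      A)).extendScalarsOfIsLocalization m.toIdeal.primeCompl _
  have hK : HasInjectiveDimensionLT
      (ModuleCat.of A (LocalizedModule m.toIdeal.primeCompl R)) (max d k + 1) :=
    have := hasInjectiveDimensionLT_of_ge (ModuleCat.of A A) k (max d k + 1) (by omega)
    hasInjectiveDimensionLT_of_iso eR.symm.toModuleIso _
  exact (Goren.Global.hasInjectiveDimensionLT_iff_gorenstein.1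
    (Canon.OverField.exists_hasInjectiveDimensionLT (C := R) 𝒜 hm hdim hK)).1


end Groth.Agent.H19.Veronese.Crit
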