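import Groth.Agent.H19.Veronese.Socle
import Groth.Agent.H19.Veronese.Crit
import Groth.Agent.Lib.Goren.Global
import Groth.Prelude.Def_GrLC2

/-!
# Veronese subrings of graded Gorenstein rings
-/

set_option autoImplicit false
set_option linter.unusedSectionVars false
set_option linter.overlappingInstances false
set_option linter.style.haveILetI false

universe u

open CategoryTheory RingTheory.Sequence IsLocalRing
open Groth.Agent.Lib Groth.Agent.Lib.Graded Groth.Agent.Lib.Graded.Basic Groth.Agent.Lib.Graded.StarInj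

namespace Groth.Agent.H19.Veronese.Gor

variable {R R' : Type u} [CommRing R] [CommRing R'] {𝒜 : ℤ → AddSubgroup R} [GradedRing 𝒜]
  {𝒜' : ℤ → AddSubgroup R'} [GradedRing 𝒜'] {q : ℕ} {φ : R' →+* R} {m : HomogeneousIdeal 𝒜}
  {m' : HomogeneousIdeal 𝒜'}
  (h : IsVeronese 𝒜 𝒜' q φ) (hpos : ∀ n : ℤ, n < 0 → 𝒜 n = ⊥) (h0 : IsField (GrLC.deg0 𝒜))
  (hmsp : m.toIdeal = Ideal.span (⋃ n ∈ Set.Ioi (0 : ℤ), (𝒜 n : Set R)))
  (hm'sp : m'.toIdeal = Ideal.span (⋃ j ∈ Set.Ioi (0 : ℤ), (𝒜' j : Set R')))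
  {n : ℕ} {a : ℤ} {f : Fin n → R} {deg : Fin n → ℤ} {s : ℤ} {w : R}
  (D : Socle.IsDatum 𝒜 m q a f deg s w)

omit [GradedRing 𝒜] in
include hm'sp in
theorem mem_of_pos' {j : ℤ} (hj : 0 < j) {c : R'} (hc : c ∈ 𝒜' j) : c ∈ m'.toIdeal :=
  hm'sp ▸ Ideal.subset_span (Set.mem_iUnion₂.2 ⟨j, hj, hc⟩)

include h hmsp hm'sp in
/-- The irrelevant ideal maps into the irrelevant ideal. -/
theorem map_mem_max {c : R'} (hc : c ∈ m'.toIdeal) : φ c ∈ m.toIdeal := by
  rw [hm'sp] at hc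
  refine Ideal.span_le (I := m.toIdeal.comap φ).2 ?_ hc
  intro x hx
  obtain ⟨j, hj, hxj⟩ := Set.mem_iUnion₂.1 hx
  rw [SetLike.mem_coe, Ideal.mem_comap, hmsp]
  exact Ideal.subset_span (Set.mem_iUnion₂.2
    ⟨j * q, mul_pos (α := ℤ) hj (by exact_mod_cast h.pos), h.map_mem hxj⟩)

include h hpos h0 hmsp hm'sp D in
/-- The reduction of the Veronese subring. -/
theorem exists_reduction [IsNoetherianRing R] :
    ∃ L : List R', L.length = n ∧ (∀ c ∈ L, c ∈ m'.toIdeal) ∧ IsWeaklyRegular R' L ∧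
      (∀ c, c ∈ Ideal.ofList L ↔ φ c ∈ Ideal.span (Set.range f)) ∧
      ∃ N : ℕ, m'.toIdeal ^ N ≤ Ideal.ofList L := by
  have := h.isNoetherianRing
  choose f' hf' hφ using fun j ↦ h.exists_preimage_of_dvd (D.deg_dvd j) (D.f_mem j)
  have hlist : (List.ofFn f').map φ = List.ofFn f := by
    rw [List.map_ofFn]
    exact congrArg List.ofFn (funext hφ)
  have hmem : ∀ c, c ∈ Ideal.ofList (List.ofFn f') ↔ φ c ∈ Ideal.span (Set.range f) := by
    intro c
    conv_lhs => rw [← h.comap_map (Ideal.ofList (List.ofFn f'))]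
    rw [Ideal.mem_comap, Ideal.map_ofList, hlist]
    exact iff_of_eq (congrArg (φ c ∈ ·)
      (congrArg Ideal.span (Set.ext fun x ↦ (List.mem_ofFn' f x))))
  have hfm : ∀ c ∈ List.ofFn f', c ∈ m'.toIdeal := fun c hc ↦ by
    obtain ⟨j, rfl⟩ := (List.mem_ofFn' _ _).1 hc
    refine mem_of_pos' hm'sp (lt_of_mul_lt_mul_right ?_ (Int.natCast_nonneg q)) (hf' j)
    rw [zero_mul, Int.ediv_mul_cancel (D.deg_dvd j)]
    exact D.deg_pos j
  refine ⟨_, List.length_ofFn, hfm, ?_, hmem, ?_⟩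
  · rw [isWeaklyRegular_iff]
    intro i hi
    refine (isSMulRegular_quotient_iff_mem_of_smul_mem _ _).2 fun x hx ↦ ?_
    rw [smul_eq_mul (α := Ideal R'), Ideal.mul_top] at hx ⊢
    have hi' : i < ((List.ofFn f').map φ).length := by rwa [List.length_map]
    have hr := hlist.symm ▸ D.reg
    rw [isWeaklyRegular_iff] at hr
    have h1 := (isSMulRegular_quotient_iff_mem_of_smul_mem _ _).1 (hr i hi') (φ x)
    rw [smul_eq_mul (α := Ideal R), Ideal.mul_top, ← List.map_take, ← Ideal.map_ofList,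
      List.getElem_map, smul_eq_mul, ← map_mul] at h1
    have h2 := h1 (Ideal.mem_map_of_mem _ hx)
    rwa [← Ideal.mem_comap, h.comap_map] at h2
  · refine Ideal.exists_pow_le_of_le_radical_of_fg ?_ (IsNoetherian.noetherian _)
    rw [hm'sp, Ideal.span_le]
    intro c hc
    obtain ⟨N, hN⟩ := D.pow_le
    refine ⟨N, (hmem _).2 ?_⟩
    rw [map_pow]
    exact hN (Ideal.pow_mem_pow (map_mem_max h hmsp hm'sp (hm'sp ▸ Ideal.subset_span hc)) N)

include h hm'sp D in
/-- Components of socle elements of the reduction of the Veronese subring. -/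
theorem socle_proj {z : R'} (hz : ∀ c ∈ m'.toIdeal, φ (c * z) ∈ Ideal.span (Set.range f)) (i : ℤ) :
    ∀ e, 0 < e → (q : ℤ) ∣ e → ∀ r ∈ 𝒜 e, r * φ (proj 𝒜' i z) ∈ Ideal.span (Set.range f) := by
  intro e he hqe r hr
  have hJh : (Ideal.span (Set.range f)).IsHomogeneous 𝒜 := Ideal.homogeneous_span 𝒜 _ (by
    rintro _ ⟨j, rfl⟩; exact ⟨deg j, D.f_mem j⟩)
  obtain ⟨c, hc, rfl⟩ := h.exists_preimage_of_dvd hqe hr
  have hcm : c ∈ m'.toIdeal := mem_of_pos' hm'sp (lt_of_mul_lt_mul_right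
    (by rwa [zero_mul, Int.ediv_mul_cancel hqe]) (Int.natCast_nonneg q)) hc
  have h1 := proj_mem_of_isHomogeneous hJh ((e / (q : ℤ) + i) * q) (hz c hcm)
  rw [← h.map_proj, show c * z = c • z from rfl, proj_smul_of_mem 𝒜' 𝒜' hc, add_sub_cancel_left,
    smul_eq_mul, map_mul] at h1
  exact h1

include h hpos h0 hmsp hm'sp D in
/-- When `q` divides the socle degree, the reduction of the Veronese subring has simple socle. -/
theorem length_socle_eq_one (hqs : (q : ℤ) ∣ s) {J' : Ideal R'}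
    (hJ' : ∀ c, c ∈ J' ↔ φ c ∈ Ideal.span (Set.range f)) :
    Module.length R' (LocCoh.torsionBy m'.toIdeal (R' ⧸ J')) = 1 := by
  classical
  obtain ⟨w', hw', hφw⟩ := h.exists_preimage_of_dvd hqs D.w_mem
  have hwsoc : Ideal.Quotient.mk J' w' ∈ LocCoh.torsionBy m'.toIdeal (R' ⧸ J') :=
    (Submodule.mem_torsionBySet_iff _ _).2 fun c ↦ Ideal.Quotient.eq_zero_iff_mem.2 <|
      (hJ' _).2 (by
        show φ ((c : R') * w') ∈ _
        rw [map_mul, hφw]
        exact D.socle _ (map_mem_max h hmsp hm'sp c.2))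
  let W : LocCoh.torsionBy m'.toIdeal (R' ⧸ J') := ⟨_, hwsoc⟩
  have hW : W ≠ 0 := fun hc ↦ D.w_not_mem
    (hφw ▸ (hJ' _).1 (Ideal.Quotient.eq_zero_iff_mem.1 (congrArg Subtype.val hc)))
  have key : ∀ x : LocCoh.torsionBy m'.toIdeal (R' ⧸ J'), ∃ c ∈ 𝒜' 0, x = c • W := by
    rintro ⟨x, hx⟩
    obtain ⟨z, rfl⟩ := Ideal.Quotient.mk_surjective x
    have hz : ∀ c ∈ m'.toIdeal, φ (c * z) ∈ Ideal.span (Set.range f) := fun c hc ↦
      (hJ' _).1 (Ideal.Quotient.eq_zero_iff_mem.1 ((Submodule.mem_torsionBySet_iff _ _).1 hx ⟨c, hc⟩))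
    have hother : ∀ i : ℤ, i * (q : ℤ) ≠ s → proj 𝒜' i z ∈ J' := by
      intro i hi
      by_contra hJ
      rw [hJ'] at hJ
      obtain ⟨r, hr, hrx⟩ := D.exists_mul (h.map_mem (proj_mem 𝒜' i z)) hJ
      rcases lt_trichotomy (s - i * q) 0 with hlt | heq | hgt
      · rw [hpos _ hlt, AddSubgroup.mem_bot] at hr
        exact hrx (by rw [hr, zero_mul]; exact zero_mem _)
      · exact hi (by omega)
      · exact hrx (socle_proj h hm'sp D hz i _ hgt (dvd_sub hqs (dvd_mul_left _ _)) r hr)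
    have hrest : z - proj 𝒜' (s / q) z ∈ J' := by
      have hsum : ∑ i ∈ supp 𝒜' z, proj 𝒜' i z = z := sum_proj 𝒜' z
      by_cases hmem : s / (q : ℤ) ∈ supp 𝒜' z
      · rw [show z - proj 𝒜' (s / q) z = ∑ i ∈ (supp 𝒜' z).erase (s / q), proj 𝒜' i z from
          (Finset.sum_erase_eq_sub (f := fun i ↦ proj 𝒜' i z) hmem |>.trans
            (congrArg (· - proj 𝒜' (s / q) z) hsum)).symm]
        exact sum_mem fun i hi ↦ hother i fun hc ↦ (Finset.mem_erase.1 hi).1
          (by rw [← hc, Int.mul_ediv_cancel _ h.q_ne_zero])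
      · have hz0 : proj 𝒜' (s / q) z = 0 := by
          by_contra hne; exact hmem ((mem_supp 𝒜').2 hne)
        rw [hz0, sub_zero, ← hsum]
        exact sum_mem fun i hi ↦ hother i fun hc ↦ hmem (by
          rwa [← hc, Int.mul_ediv_cancel _ h.q_ne_zero])
    by_cases hzJ : proj 𝒜' (s / q) z ∈ J'
    · refine ⟨0, zero_mem _, Subtype.ext ?_⟩
      rw [zero_smul]
      exact Ideal.Quotient.eq_zero_iff_mem.2 (by simpa using add_mem hrest hzJ)
    · have hpm : φ (proj 𝒜' (s / q) z) ∈ 𝒜 s := by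
        simpa [Int.ediv_mul_cancel hqs] using h.map_mem (proj_mem 𝒜' (s / q) z)
      have hsoc : ∀ c ∈ m.toIdeal, c * φ (proj 𝒜' (s / q) z) ∈ Ideal.span (Set.range f) := by
        intro c hc
        rw [hmsp] at hc
        induction hc using Submodule.span_induction with
        | mem x hx =>
          obtain ⟨e, he, hxe⟩ := Set.mem_iUnion₂.1 hx
          exact D.mem_of_lt hpos (by simp only [Set.mem_Ioi] at he; omega)
            (show x * φ (proj 𝒜' (s / q) z) ∈ 𝒜 (e + s) from SetLike.mul_mem_graded hxe hpm)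
        | zero => simp
        | add x y _ _ hx hy => rw [add_mul]; exact add_mem hx hy
        | smul c x _ hx => rw [smul_eq_mul, mul_assoc]; exact Ideal.mul_mem_left _ _ hx
      obtain ⟨-, c, hc, hcz⟩ := D.uniq _ _ hpm hsoc (fun hJ ↦ hzJ ((hJ' _).2 hJ))
      obtain ⟨c', hc', rfl⟩ := h.exists_preimage (j := 0) (r := c) (by rwa [zero_mul])
      refine ⟨c', hc', Subtype.ext ?_⟩
      show Ideal.Quotient.mk J' z = c' • Ideal.Quotient.mk J' w'
      refine Ideal.Quotient.eq.2 ?_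
      have h2 : proj 𝒜' (s / q) z - c' * w' ∈ J' := (hJ' _).2 (by rwa [map_sub, map_mul, hφw])
      simpa [smul_eq_mul] using add_mem hrest h2
  rw [Module.length_eq_one_iff, isSimpleModule_iff_toSpanSingleton_surjective]
  refine ⟨⟨W, 0, hW⟩, fun x hx y ↦ ?_⟩
  obtain ⟨c, hc, rfl⟩ := key x
  obtain ⟨d, hd, rfl⟩ := key y
  have hc0 : c ≠ 0 := fun hc0 ↦ hx (by rw [hc0, zero_smul])
  obtain ⟨e, he⟩ := (h.isField_deg0 h0).mul_inv_cancel
    (show (⟨c, hc⟩ : GrLC.deg0 𝒜') ≠ 0 from fun hh ↦ hc0 (congrArg Subtype.val hh))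
  refine ⟨d * (e : R'), ?_⟩
  rw [LinearMap.toSpanSingleton_apply, smul_smul]
  congr 1
  have he' : c * (e : R') = 1 := congrArg Subtype.val he
  linear_combination d * he'

include h hm'sp in
theorem eq_localization [IsNoetherianRing R] [m'.toIdeal.IsPrime] (i : ℕ) :
    GrLC.bassNum m'.toIdeal R' i = Module.length (Localization.AtPrime m'.toIdeal) (Abelian.Ext.{u}
      (ModuleCat.of (Localization.AtPrime m'.toIdeal) (ResidueField (Localization.AtPrime m'.toIdeal)))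
      (ModuleCat.of (Localization.AtPrime m'.toIdeal) (Localization.AtPrime m'.toIdeal)) i) := by
  refine Bass.Main.length_ext_congr _ ?_ i
  exact (IsLocalizedModule.iso m'.toIdeal.primeCompl (Algebra.linearMap R'
    (Localization.AtPrime m'.toIdeal))).extendScalarsOfIsLocalization m'.toIdeal.primeCompl _

include h hpos h0 hmsp D in
/-- If `q` divides the socle degree, the Veronese subring is Gorenstein. -/
theorem isGorensteinRing [IsNoetherianRing R] (hqs : (q : ℤ) ∣ s) : LocCoh.IsGorensteinRing R' := by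
  classical
  have := h.isNoetherianRing
  let m' : HomogeneousIdeal 𝒜' := ⟨Ideal.span (⋃ j ∈ Set.Ioi (0 : ℤ), (𝒜' j : Set R')),
    Ideal.homogeneous_span 𝒜' _ fun x hx ↦ by
      obtain ⟨j, -, hxj⟩ := Set.mem_iUnion₂.1 hx
      exact ⟨j, hxj⟩⟩
  have hm'sp : m'.toIdeal = Ideal.span (⋃ j ∈ Set.Ioi (0 : ℤ), (𝒜' j : Set R')) := rfl
  have hpos' := h.eq_zero_of_neg hpos
  have h0' := h.isField_deg0 h0
  have hmax := FieldDeg0.isMaximal hpos' h0' hm'sp
  have hm' : GrLC.IsStarLocal 𝒜' m' := by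
    refine ⟨⟨fun hc ↦ hmax.ne_top (congrArg HomogeneousIdeal.toIdeal hc), fun K hK ↦ ?_⟩,
      fun K hK ↦ ?_⟩
    · by_contra hne
      exact hK.not_ge (FieldDeg0.le_of_ne_top hpos' h0' hm'sp K fun hc ↦
        hne (HomogeneousIdeal.ext hc))
    · have hle : K ≤ m' := FieldDeg0.le_of_ne_top hpos' h0' hm'sp K fun hc ↦
        hK.1 (HomogeneousIdeal.ext hc)
      rcases hle.eq_or_lt with heq | hlt
      · exact heq
      · exact absurd (hK.2 m' hlt) fun hc ↦ hmax.ne_top (congrArg HomogeneousIdeal.toIdeal hc)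
  obtain ⟨L, -, hLm, hreg, hJ', N, hN⟩ := exists_reduction h hpos h0 hmsp hm'sp D
  obtain ⟨-, -, hsoc⟩ := Local.length_ext m'.toIdeal L hLm hreg hN
  rw [length_socle_eq_one h hpos h0 hmsp hm'sp D hqs hJ'] at hsoc
  exact Crit.isGorensteinRing_of_socle hpos' h0' hm'sp hm' L hLm hreg hN hsoc

end Groth.Agent.H19.Veronese.Gor
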