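import Groth.Agent.H19.Veronese.RegQuot
import Groth.Agent.H19.Bass.Gorenstein
import Groth.Agent.Lib.Graded.FieldDeg0
import Groth.Agent.Lib.Graded.Avoid
import Groth.Agent.Lib.Graded.Chain
import Groth.Agent.Lib.Depth.Local
import Groth.Agent.S18645
import Mathlib.RingTheory.Regular.Flat

/-!
# Artinian reductions of graded Gorenstein rings over a field
-/

set_option autoImplicit false
set_option linter.unusedSectionVars false
set_option linter.overlappingInstances false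
set_option linter.style.haveILetI false

universe u

open CategoryTheory RingTheory.Sequence
open Groth.Agent.Lib Groth.Agent.Lib.Graded Groth.Agent.Lib.Graded.Basic Groth.Agent.Lib.Graded.StarInj

namespace Groth.Agent.H19.Veronese.Reduction

variable {R : Type u} [CommRing R] [LocCoh.IsCohenMacaulayRing R] {𝒜 : ℤ → AddSubgroup R}
  [GradedRing 𝒜] {m : HomogeneousIdeal 𝒜} (hpos : ∀ n : ℤ, n < 0 → 𝒜 n = ⊥)
  (h0 : IsField (GrLC.deg0 𝒜))
  (hmsp : m.toIdeal = Ideal.span (⋃ n ∈ Set.Ioi (0 : ℤ), (𝒜 n : Set R)))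
  {n : ℕ} (hn : ringKrullDim R = n) {q : ℕ} (hq : 0 < q)

include hpos h0 hmsp

theorem mem_of_pos {k : ℤ} (hk : 0 < k) {x : R} (hx : x ∈ 𝒜 k) : x ∈ m.toIdeal :=
  hmsp ▸ Ideal.subset_span (Set.mem_iUnion₂.2 ⟨k, hk, hx⟩)

include hn hq in
/-- A homogeneous regular sequence as long as the dimension, with degrees divisible by `q`. -/
theorem exists_sequence : ∃ (f : Fin n → R) (deg : Fin n → ℤ),
    (∀ j, 0 < deg j ∧ (q : ℤ) ∣ deg j ∧ f j ∈ 𝒜 (deg j)) ∧ IsWeaklyRegular R (List.ofFn f) := by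
  classical
  have hdepth := FieldDeg0.idealDepth_eq hpos h0 hmsp hn
  have hne := (FieldDeg0.isMaximal hpos h0 hmsp).ne_top
  suffices key : ∀ t, t ≤ n → ∃ L : List R, L.length = t ∧ IsWeaklyRegular R L ∧
      ∀ x ∈ L, ∃ k : ℤ, 0 < k ∧ (q : ℤ) ∣ k ∧ x ∈ 𝒜 k by
    obtain ⟨L, hlen, hreg, hL⟩ := key n le_rfl
    subst hlen
    choose deg h1 h2 h3 using fun j : Fin L.length ↦ hL _ (L.get_mem j)
    exact ⟨L.get, deg, fun j ↦ ⟨h1 j, h2 j, h3 j⟩, by rwa [List.ofFn_get]⟩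
  intro t
  induction t with
  | zero => exact fun _ ↦ ⟨[], rfl, IsWeaklyRegular.nil R R, by simp⟩
  | succ t ih =>
    intro ht
    obtain ⟨L, hlen, hreg, hL⟩ := ih (by omega)
    have hmem : ∀ x ∈ L, x ∈ m.toIdeal := fun x hx ↦ by
      obtain ⟨k, hk, -, hxk⟩ := hL x hx
      exact mem_of_pos hpos h0 hmsp hk hxk
    have hI : m.toIdeal • (⊤ : Submodule R R) ≠ ⊤ := by
      rw [smul_eq_mul, Ideal.mul_top]; exact hne
    let Q := R ⧸ Ideal.ofList L • (⊤ : Submodule R R)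
    have hone : 1 ≤ LocCoh.idealDepth m.toIdeal Q := by
      refine Order.one_le_iff_ne_zero.2 fun h ↦ ?_
      have := Depth.Local.idealDepth_quot_ofList (M := R) hmem hreg
      rw [h, zero_add, hdepth, hlen] at this
      exact absurd (Nat.cast_injective this : t = n) (by omega)
    have hgam : GrLC.gam (Ideal.span (⋃ n ∈ Set.Ioi (0 : ℤ), (𝒜 n : Set R))) Q = ⊥ := by
      rcases Depth.Basic.one_le_idealDepth_iff.1 hone with h | ⟨x, hx, hxr⟩
      · exact absurd h (Depth.Local.ofList_smul_top_ne_top hI hmem)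
      · rw [Submodule.eq_bot_iff]
        rintro y ⟨k, hk⟩
        exact (hxr.pow k).right_eq_zero_of_smul (hk _ (Ideal.pow_mem_pow (hmsp ▸ hx) k))
    obtain ⟨k, hk, r, hr, -, hrr⟩ := Avoid.exists_pos_regular (𝒜 := 𝒜) (M := Q)
      (fun n hn r hr ↦ by rwa [hpos n hn, AddSubgroup.mem_bot] at hr)
      (fun r hr ↦ by
        obtain ⟨i, hi, hri⟩ := Set.mem_iUnion₂.1 hr
        exact ⟨i, hi, hri⟩) hgam
    refine ⟨L ++ [r ^ q], by simp [hlen], ?_, ?_⟩
    · rw [isWeaklyRegular_append_iff, isWeaklyRegular_singleton_iff]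
      exact ⟨hreg, hrr.pow q⟩
    · intro x hx
      rcases List.mem_append.1 hx with hx | hx
      · exact hL x hx
      · obtain rfl := List.mem_singleton.1 hx
        refine ⟨(q : ℤ) * k, mul_pos (by exact_mod_cast hq) hk, dvd_mul_right _ _, ?_⟩
        simpa [nsmul_eq_mul] using SetLike.pow_mem_graded (A := 𝒜) q hr

omit [LocCoh.IsCohenMacaulayRing R] hpos h0 hmsp in
/-- An ideal spanned by homogeneous elements has nothing in degrees below all of theirs. -/
theorem eq_zero_of_mem_span {hp : ∀ n : ℤ, n < 0 → 𝒜 n = ⊥} {t : ℕ} {f : Fin t → R} {deg : Fin t → ℤ}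
    (hf : ∀ j, f j ∈ 𝒜 (deg j)) {e : ℤ} (he : ∀ j, e < deg j) {x : R} (hx : x ∈ 𝒜 e)
    (hxJ : x ∈ Ideal.span (Set.range f)) : x = 0 := by
  obtain ⟨c, hc⟩ := Ideal.mem_span_range_iff_exists_fun.1 hxJ
  have h := congrArg (proj 𝒜 e) hc
  rw [map_sum, proj_of_mem 𝒜 hx] at h
  rw [← h]
  refine Finset.sum_eq_zero fun j _ ↦ ?_
  have hz := proj_mem 𝒜 (e - deg j) (c j)
  rw [hp _ (by have := he j; omega), AddSubgroup.mem_bot] at hz
  have h1 := proj_smul_of_mem 𝒜 𝒜 (hf j) e (c j)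
  rw [smul_eq_mul, smul_eq_mul, hz, mul_zero] at h1
  rw [mul_comm]
  exact h1

include hn in
/-- The quotient by a regular sequence as long as the dimension is supported at the irrelevant ideal. -/
theorem exists_pow_le {f : Fin n → R} {deg : Fin n → ℤ}
    (hf : ∀ j, 0 < deg j ∧ f j ∈ 𝒜 (deg j)) (hreg : IsWeaklyRegular R (List.ofFn f)) :
    ∃ N : ℕ, m.toIdeal ^ N ≤ Ideal.span (Set.range f) := by
  have := FieldDeg0.isMaximal hpos h0 hmsp
  let J := Ideal.span (Set.range f)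
  have hJh : J.IsHomogeneous 𝒜 := Ideal.homogeneous_span 𝒜 _ (by
    rintro _ ⟨j, rfl⟩; exact ⟨deg j, (hf j).2⟩)
  refine Ideal.exists_pow_le_of_le_radical_of_fg (I := m.toIdeal) ?_ (IsNoetherian.noetherian _)
  rw [← J.sInf_minimalPrimes]
  refine le_sInf fun P hP ↦ ?_
  have hPp := hP.1.1
  have hPh : P.IsHomogeneous 𝒜 := by
    have hle : J ≤ (Ideal.homogeneousCore 𝒜 P).toIdeal := by
      rw [← Ideal.IsHomogeneous.toIdeal_homogeneousCore_eq_self hJh]
      exact Ideal.homogeneousCore_mono 𝒜 hP.1.2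
    rw [le_antisymm (hP.2 ⟨Ass.isPrime_core 𝒜 hPp, hle⟩ (Ideal.toIdeal_homogeneousCore_le 𝒜 P))
      (Ideal.toIdeal_homogeneousCore_le 𝒜 P)]
    exact (Ideal.homogeneousCore 𝒜 P).isHomogeneous
  have hPm : P ≤ m.toIdeal := FieldDeg0.le_of_ne_top hpos h0 hmsp ⟨P, hPh⟩ hPp.ne_top
  refine le_of_eq (Eq.symm ?_)
  rcases hPm.eq_or_lt with h | h
  · exact h
  exfalso
  have h1 : (n : ℕ∞) ≤ P.height := by
    have h2 := Depth.Basic.length_le_idealDepth (I := P) (M := R) hreg fun r hr ↦ by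
      obtain ⟨i, rfl⟩ := (List.mem_ofFn' _ _).1 hr
      exact hP.1.2 (Ideal.subset_span ⟨i, rfl⟩)
    rw [List.length_ofFn, (Groth.Agent.S14424.result R).1 ‹_› _ hPp.ne_top] at h2
    exact h2
  have h2 := Ideal.height_add_one_le_of_lt_of_isPrime h
  have h3 : m.toIdeal.height = n := by
    have := (FieldDeg0.ringKrullDim_eq hpos h0 hmsp).symm.trans hn
    exact_mod_cast this
  rw [h3] at h2
  have := (add_le_add h1 le_rfl).trans h2
  have h4 : n + 1 ≤ n := by exact_mod_cast this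
  omega

end Groth.Agent.H19.Veronese.Reduction
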