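import Groth.Agent.H19.Veronese.Basic
import Groth.Agent.H19.Veronese.Local
import Groth.Agent.H19.Veronese.Reduction
import Groth.Agent.H19.Bass.Rel
import Groth.Agent.H19.Canon.OverField

/-!
# The socle of a graded Artinian reduction of a Gorenstein ring over a field
-/

set_option autoImplicit false
set_option linter.unusedSectionVars false
set_option linter.overlappingInstances false
set_option linter.style.haveILetI false

universe u

open CategoryTheory RingTheory.Sequence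
open Groth.Agent.Lib Groth.Agent.Lib.Graded Groth.Agent.Lib.Graded.Basic Groth.Agent.Lib.Graded.StarInj

namespace Groth.Agent.H19.Veronese.Socle

variable {R : Type u} [CommRing R] {𝒜 : ℤ → AddSubgroup R} [GradedRing 𝒜]

/-- Gorenstein rings are Cohen–Macaulay. -/
theorem isCohenMacaulayRing (A : Type u) [CommRing A] [h : LocCoh.IsGorensteinRing A] :
    LocCoh.IsCohenMacaulayRing A where
  isCohenMacaulayLocalRing_localization p _ := by
    have := h.isGorensteinLocalRing_localization p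
    obtain ⟨k, hk⟩ := this.exists_hasInjectiveDimensionLT
    exact (Goren.Basic.exists_dim hk).choose_spec.2.2.1

variable (𝒜) in
/-- A homogeneous system of parameters with degrees divisible by `q`, and the socle `w` of degree
`s` of the quotient by it. -/
structure IsDatum (m : HomogeneousIdeal 𝒜) {n : ℕ} (q : ℕ) (a : ℤ) (f : Fin n → R)
    (deg : Fin n → ℤ) (s : ℤ) (w : R) : Prop where
  deg_pos : ∀ j, 0 < deg j
  deg_dvd : ∀ j, (q : ℤ) ∣ deg j
  f_mem : ∀ j, f j ∈ 𝒜 (deg j)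
  reg : IsWeaklyRegular R (List.ofFn f)
  pow_le : ∃ N : ℕ, m.toIdeal ^ N ≤ Ideal.span (Set.range f)
  w_mem : w ∈ 𝒜 s
  w_not_mem : w ∉ Ideal.span (Set.range f)
  socle : ∀ c ∈ m.toIdeal, c * w ∈ Ideal.span (Set.range f)
  dvd : (q : ℤ) ∣ s - a
  uniq : ∀ g, ∀ z ∈ 𝒜 g, (∀ c ∈ m.toIdeal, c * z ∈ Ideal.span (Set.range f)) →
    z ∉ Ideal.span (Set.range f) → g = s ∧ ∃ c ∈ 𝒜 0, z - c * w ∈ Ideal.span (Set.range f)

variable {m : HomogeneousIdeal 𝒜} (hpos : ∀ n : ℤ, n < 0 → 𝒜 n = ⊥)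
  (h0 : IsField (GrLC.deg0 𝒜))
  (hmsp : m.toIdeal = Ideal.span (⋃ n ∈ Set.Ioi (0 : ℤ), (𝒜 n : Set R)))

/-- The pairing into the socle degree. -/
theorem exists_mul_not_mem {J : Ideal R} {s : ℤ} {N : ℕ} (hN : m.toIdeal ^ N ≤ J)
    (huniq : ∀ g, ∀ z ∈ 𝒜 g, (∀ c ∈ m.toIdeal, c * z ∈ J) → z ∉ J → g = s) {d : ℤ} {x : R}
    (hx : x ∈ 𝒜 d) (hxJ : x ∉ J) : ∃ r ∈ 𝒜 (s - d), r * x ∉ J := by
  suffices key : ∀ k, ∀ d, ∀ x ∈ 𝒜 d, x ∉ J → (∀ c ∈ m.toIdeal ^ k, c * x ∈ J) →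
      ∃ r ∈ 𝒜 (s - d), r * x ∉ J from
    key N d x hx hxJ fun c hc ↦ J.mul_mem_right _ (hN hc)
  intro k
  induction k with
  | zero =>
    intro d x _ hxJ hk
    exact absurd (by simpa using hk 1 (by rw [pow_zero, Ideal.one_eq_top]; trivial)) hxJ
  | succ k ih =>
    intro d x hx hxJ hk
    by_cases hsoc : ∀ c ∈ m.toIdeal, c * x ∈ J
    · obtain rfl := huniq d x hx hsoc hxJ
      exact ⟨1, by rw [sub_self]; exact SetLike.one_mem_graded 𝒜, by rwa [one_mul]⟩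
    push Not at hsoc
    obtain ⟨c, hc, hcx⟩ := hsoc
    obtain ⟨i, hi⟩ : ∃ i, proj 𝒜 i c * x ∉ J := by
      by_contra hall
      push Not at hall
      exact hcx (by rw [← sum_proj 𝒜 c, Finset.sum_mul]; exact sum_mem fun i _ ↦ hall i)
    have him : proj 𝒜 i c ∈ m.toIdeal := m.isHomogeneous i hc
    have hprod : proj 𝒜 i c * x ∈ 𝒜 (i + d) := SetLike.mul_mem_graded (proj_mem 𝒜 i c) hx
    obtain ⟨r, hr, hrx⟩ := ih (i + d) _ hprod hi fun c' hc' ↦ by
      rw [← mul_assoc]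
      exact hk _ (by rw [pow_succ]; exact Ideal.mul_mem_mul hc' him)
    refine ⟨r * proj 𝒜 i c, ?_, by rwa [mul_assoc]⟩
    rw [show s - d = s - (i + d) + i by ring]
    exact SetLike.mul_mem_graded hr (proj_mem 𝒜 i c)

namespace IsDatum

variable {n q : ℕ} {a : ℤ} {f : Fin n → R} {deg : Fin n → ℤ} {s : ℤ} {w : R}
  (D : IsDatum 𝒜 m q a f deg s w)
include D

theorem exists_mul {d : ℤ} {x : R} (hx : x ∈ 𝒜 d) (hxJ : x ∉ Ideal.span (Set.range f)) :
    ∃ r ∈ 𝒜 (s - d), r * x ∉ Ideal.span (Set.range f) := by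
  obtain ⟨N, hN⟩ := D.pow_le
  exact exists_mul_not_mem hN (fun g z hz h1 h2 ↦ (D.uniq g z hz h1 h2).1) hx hxJ

include hpos in
theorem mem_of_lt {d : ℤ} (hd : s < d) {x : R} (hx : x ∈ 𝒜 d) : x ∈ Ideal.span (Set.range f) := by
  by_contra hxJ
  obtain ⟨r, hr, hrx⟩ := D.exists_mul hx hxJ
  rw [hpos _ (by omega), AddSubgroup.mem_bot] at hr
  exact hrx (by rw [hr, zero_mul]; exact zero_mem _)

end IsDatum

variable (hm : GrLC.IsStarLocal 𝒜 m) [LocCoh.IsGorensteinRing R] {n : ℕ} (hn : ringKrullDim R = n)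
  {q : ℕ} (hq : 0 < q)

include hpos h0 hmsp hm hn hq in
/-- A graded Gorenstein ring over a field has such data, with the socle degree congruent to the
`a`-invariant. -/
theorem exists_datum (I : GrLC.StarInjRes 𝒜 𝒜) (a : ℤ)
    (ha : GrLC.endDeg (I.Hgr m n) = ((a : WithTop ℤ) : WithBot (WithTop ℤ))) :
    ∃ f deg s w, IsDatum 𝒜 m (n := n) q a f deg s w := by
  classical
  have := isCohenMacaulayRing R
  have hmax := FieldDeg0.isMaximal hpos h0 hmsp
  obtain ⟨f, deg, hf, hreg⟩ := Reduction.exists_sequence hpos h0 hmsp hn hq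
  obtain ⟨N, hN⟩ := Reduction.exists_pow_le hpos h0 hmsp hn (deg := deg)
    (fun j ↦ ⟨(hf j).1, (hf j).2.2⟩) hreg
  let J : Ideal R := Ideal.span (Set.range f)
  have hJ : Ideal.ofList (List.ofFn f) = J :=
    congrArg Ideal.span (Set.ext fun x ↦ (List.mem_ofFn' f x))
  have hfm : ∀ j, f j ∈ m.toIdeal := fun j ↦ Reduction.mem_of_pos hpos h0 hmsp (hf j).1 (hf j).2.2
  have hJh : J.IsHomogeneous 𝒜 := Ideal.homogeneous_span 𝒜 _ (by
    rintro _ ⟨j, rfl⟩; exact ⟨deg j, (hf j).2.2⟩)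
  have hdimA : ringKrullDim (Localization.AtPrime m.toIdeal) = n :=
    (Canon.OverField.ringKrullDim_localization 𝒜 hm hn).1
  have hA : LocCoh.IsGorensteinLocalRing (Localization.AtPrime m.toIdeal) :=
    LocCoh.IsGorensteinRing.isGorensteinLocalRing_localization _
  obtain ⟨-, htop⟩ := Bass.GorLocal.length_ext_self n hdimA
  obtain ⟨-, hlen, -⟩ := Local.length_ext m.toIdeal (List.ofFn f) (fun x hx ↦ by
    obtain ⟨j, rfl⟩ := (List.mem_ofFn' _ _).1 hx; exact hfm j) hreg (N := N) (hJ ▸ hN)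
  rw [List.length_ofFn, htop, hJ] at hlen
  have hsimple := Module.length_eq_one_iff.1 hlen.symm
  have := IsSimpleModule.nontrivial R (LocCoh.torsionBy m.toIdeal (R ⧸ J))
  -- a homogeneous socle element
  obtain ⟨s, w, hws, hwsoc, hwJ⟩ : ∃ s, ∃ w ∈ 𝒜 s, (∀ c ∈ m.toIdeal, c * w ∈ J) ∧ w ∉ J := by
    obtain ⟨⟨z, hz⟩, hz0⟩ := exists_ne (0 : LocCoh.torsionBy m.toIdeal (R ⧸ J))
    obtain ⟨z, rfl⟩ := Ideal.Quotient.mk_surjective z
    have hzJ : z ∉ J := fun h ↦ hz0 (Subtype.ext (Ideal.Quotient.eq_zero_iff_mem.2 h))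
    obtain ⟨i, hi⟩ : ∃ i, proj 𝒜 i z ∉ J := by
      by_contra hall
      push Not at hall
      exact hzJ (by rw [← sum_proj 𝒜 z]; exact sum_mem fun i _ ↦ hall i)
    refine ⟨i, _, proj_mem 𝒜 i z, fun c hc ↦ ?_, hi⟩
    rw [← sum_proj 𝒜 c, Finset.sum_mul]
    refine sum_mem fun g _ ↦ ?_
    have hcg : proj 𝒜 g c ∈ m.toIdeal := m.isHomogeneous g hc
    have hmem : proj 𝒜 g c * z ∈ J :=
      Ideal.Quotient.eq_zero_iff_mem.1 ((Submodule.mem_torsionBySet_iff _ _).1 hz ⟨_, hcg⟩)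
    have := proj_mem_of_isHomogeneous hJh (g + i) hmem
    rwa [show proj 𝒜 g c * z = proj 𝒜 g c • z from rfl,
      proj_smul_of_mem 𝒜 𝒜 (proj_mem 𝒜 g c), add_sub_cancel_left] at this
  have hw_mem : Ideal.Quotient.mk J w ∈ LocCoh.torsionBy m.toIdeal (R ⧸ J) :=
    (Submodule.mem_torsionBySet_iff _ _).2 fun c ↦ Ideal.Quotient.eq_zero_iff_mem.2 (hwsoc _ c.2)
  have huniq : ∀ g, ∀ z ∈ 𝒜 g, (∀ c ∈ m.toIdeal, c * z ∈ J) → z ∉ J →
      g = s ∧ ∃ c ∈ 𝒜 0, z - c * w ∈ J := by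
    intro g z hz hzsoc hzJ
    obtain ⟨r, hr⟩ := IsSimpleModule.toSpanSingleton_surjective R
      (show (⟨_, hw_mem⟩ : LocCoh.torsionBy m.toIdeal (R ⧸ J)) ≠ 0 from fun h ↦
        hwJ (Ideal.Quotient.eq_zero_iff_mem.1 (congrArg Subtype.val h)))
      ⟨Ideal.Quotient.mk J z, (Submodule.mem_torsionBySet_iff _ _).2 fun c ↦
        Ideal.Quotient.eq_zero_iff_mem.2 (hzsoc _ c.2)⟩
    have hr' : z - r * w ∈ J := Ideal.Quotient.eq.1 (congrArg Subtype.val hr).symm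
    have h1 := proj_mem_of_isHomogeneous hJh g hr'
    rw [map_sub, proj_of_mem 𝒜 hz, show r * w = r • w from rfl, proj_smul_mem 𝒜 𝒜 hws] at h1
    have hgs : g = s := by
      by_contra hne
      refine hzJ ?_
      have h2 : proj 𝒜 (g - s) r * w ∈ J :=
        hwsoc _ (FieldDeg0.proj_mem_of_ne_zero hpos h0 hmsp (sub_ne_zero.2 hne) r)
      rw [smul_eq_mul] at h1
      simpa using add_mem h1 h2
    subst hgs
    exact ⟨rfl, _, proj_mem 𝒜 0 r, by rwa [sub_self, smul_eq_mul] at h1⟩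
  refine ⟨f, deg, s, w, fun j ↦ (hf j).1, fun j ↦ (hf j).2.1, fun j ↦ (hf j).2.2, hreg, ⟨N, hN⟩,
    hws, hwJ, hwsoc, ?_, huniq⟩
  -- the socle degree
  have hpair := fun d x hx hxJ ↦
    exists_mul_not_mem (d := d) (x := x) hN (fun g z hz h1 h2 ↦ (huniq g z hz h1 h2).1) hx hxJ
  let Q := R ⧸ (J : Submodule R R)
  letI := qDecomp 𝒜 J hJh
  haveI := qGSMul 𝒜 𝒜 (J : Submodule R R)
  obtain ⟨F, -, -⟩ := Bass.Rel.exists_minimal (𝒜 := 𝒜) (qGr 𝒜 (J : Submodule R R))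
  have hJm : J ≤ m.toIdeal := Ideal.span_le.2 fun x ⟨j, hj⟩ ↦ hj ▸ hfm j
  have hreg' : IsRegular R (List.ofFn f) := ⟨hreg, by
    rw [hJ, smul_eq_mul, Ideal.mul_top]
    exact fun h ↦ hmax.ne_top (top_le_iff.1 (h.le.trans hJm))⟩
  have heq := Groth.Agent.S18645.result R 𝒜 hpos h0 m hm hmsp n hn I n le_rfl f deg
    (fun j ↦ (hf j).2.2) hfm hreg' Q (qGr 𝒜 (J : Submodule R R)) (Submodule.mkQ _)
    (isGrHom_mkQ (ℳ := 𝒜) _) (Submodule.mkQ_surjective _) (Submodule.ker_mkQ _) F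
  rw [Nat.sub_self, ha] at heq
  have htor : ∀ y : Q, y ∈ GrLC.gam m.toIdeal Q := by
    intro y
    obtain ⟨y, rfl⟩ := Submodule.mkQ_surjective _ y
    exact ⟨N, fun r hr ↦ (Submodule.Quotient.mk_eq_zero _).2 (J.mul_mem_right _ (hN hr))⟩
  have hend : GrLC.endDeg (F.Hgr m 0) = ((s : WithTop ℤ) : WithBot (WithTop ℤ)) := by
    refine le_antisymm ((IntGraded.endDeg_le_iff _).2 fun g hg ↦ ?_) (IntGraded.le_endDeg _ ?_)
    · rw [AddSubgroup.eq_bot_iff_forall]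
      intro x hx
      obtain ⟨y, hy, hyx⟩ := Chain.h0Equiv_symm_grHom m F g x hx
      have hyJ : y ∈ J := by
        by_contra hyJ
        obtain ⟨r, hr, hrx⟩ := hpair g y hy hyJ
        rw [hpos _ (by omega), AddSubgroup.mem_bot] at hr
        exact hrx (by rw [hr, zero_mul]; exact zero_mem _)
      apply (Chain.h0Equiv m F).symm.injective
      rw [map_zero]
      exact Subtype.ext (hyx.symm.trans ((Submodule.Quotient.mk_eq_zero _).2 hyJ))
    · intro h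
      have h1 : Chain.h0Map (E := F) m ⟨_, htor (Submodule.mkQ _ w)⟩ ∈ F.Hgr m 0 s :=
        Chain.h0Map_grHom m s _ (mkQ_mem_qGr 𝒜 _ hws)
      rw [h, AddSubgroup.mem_bot, ← map_zero (Chain.h0Map (E := F) m)] at h1
      exact hwJ ((Submodule.Quotient.mk_eq_zero _).1
        (congrArg Subtype.val ((Chain.h0Map_bijective m).1 h1)))
  rw [hend, ← WithBot.coe_add, ← WithTop.coe_add, WithBot.coe_inj, WithTop.coe_inj] at heq
  rw [heq, add_sub_cancel_left]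
  exact Finset.dvd_sum fun j _ ↦ (hf j).2.1

end Groth.Agent.H19.Veronese.Socle
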