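import Groth.Agent.H19.Veronese.Rep
import Groth.Agent.H19.Veronese.Socle
import Groth.Agent.H19.Veronese.Crit
import Groth.Agent.Lib.Graded.RegDeg
import Groth.Agent.Lib.Graded.SmulSeq
import Groth.Agent.H19.Veronese.Gorenstein

/-!
# A standard graded ring with a Gorenstein Veronese subring is Gorenstein
-/

set_option autoImplicit false
set_option linter.unusedSectionVars false
set_option linter.overlappingInstances false
set_option linter.style.haveILetI false

universe u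

open CategoryTheory RingTheory.Sequence
open Groth.Agent.Lib Groth.Agent.Lib.Graded Groth.Agent.Lib.Graded.Basic Groth.Agent.Lib.Graded.StarInj

namespace Groth.Agent.H19.Veronese.Converse

variable {R : Type u} [CommRing R] [LocCoh.IsCohenMacaulayRing R] {𝒜 : ℤ → AddSubgroup R}
  [GradedRing 𝒜] {m : HomogeneousIdeal 𝒜} (hpos : ∀ n : ℤ, n < 0 → 𝒜 n = ⊥)
  (h0 : IsField (GrLC.deg0 𝒜))
  (hmsp : m.toIdeal = Ideal.span (⋃ n ∈ Set.Ioi (0 : ℤ), (𝒜 n : Set R)))
  {n : ℕ} (hn : ringKrullDim R = n)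

include hpos h0 hmsp hn in
/-- A homogeneous regular element acts surjectively on the top local cohomology. -/
theorem exists_smul_eq (E : GrLC.StarInjRes 𝒜 𝒜) {k : ℤ} {x : R} (hx : x ∈ 𝒜 k)
    (hreg : IsSMulRegular R x) (ξ : E.H m n) : ∃ η, x • η = ξ := by
  classical
  let P : Submodule R R := LinearMap.range (x • (LinearMap.id : R →ₗ[R] R))
  have hP : P.IsHomogeneous 𝒜 := SmulSeq.isHomogeneous_range_smul hx
  letI := qDecomp 𝒜 P hP
  haveI := qGSMul 𝒜 𝒜 P
  obtain ⟨F⟩ := Res.nonempty_starInjRes 𝒜 (qGr 𝒜 P)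
  obtain ⟨g, δ, hg, -, hker, -, -, -⟩ := SmulSeq.exists_seq m hx hreg (π := P.mkQ)
    (isGrHom_mkQ (ℳ := 𝒜) P) P.mkQ_surjective P.ker_mkQ E F
  have hspan : P = Ideal.span {x} := by
    refine (RegDeg.range_smul_id x R).trans ?_
    rw [Ideal.smul_eq_mul, Ideal.mul_top]
  have hvan : ∀ d, F.Hgr m n d = ⊥ := fun d ↦ by
    refine (Van.V_toMod_iff F).1 (CMVanish.V_of_supportDim_lt _ ?_)
    rw [Module.supportDim_eq_ringKrullDim_quotient_annihilator, Ideal.annihilator_quotient, hspan]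
    have h1 := ringKrullDim_quotient_succ_le_of_nonZeroDivisor (R := R) (r := x)
      (mem_nonZeroDivisors_iff_right.2 fun y hy ↦ hreg.right_eq_zero_of_smul
        (by rwa [smul_eq_mul, mul_comm]))
    rw [hn] at h1
    generalize ringKrullDim (R ⧸ Ideal.span {x}) = D at h1 ⊢
    induction D using WithBot.recBotCoe with
    | bot => exact WithBot.bot_lt_coe _
    | coe D =>
      have h3 : D + 1 ≤ (n : ℕ∞) := by exact_mod_cast h1
      have h4 : D < (n : ℕ∞) := lt_of_lt_of_le (ENat.lt_add_one_iff (ne_top_of_le_ne_top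
        (ENat.natCast_ne_top n) (le_self_add.trans h3)) |>.2 le_rfl) h3
      exact_mod_cast h4
  refine (hker n ξ).1 ?_
  letI := Res.hgrDecomp F m n
  rw [← sum_proj (F.Hgr m n) (g n ξ)]
  exact Finset.sum_eq_zero fun d _ ↦ (AddSubgroup.eq_bot_iff_forall _).1 (hvan d) _ (proj_mem _ d _)

include hpos h0 hmsp hn in
/-- The converse: a Gorenstein Veronese subring forces the Gorenstein property and the divisibility. -/
theorem main (hm : GrLC.IsStarLocal 𝒜 m)
    (hstd : Ideal.span (⋃ n ∈ Set.Ioi (0 : ℤ), (𝒜 n : Set R)) = Ideal.span ((𝒜 1 : AddSubgroup R) : Set R))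
    (h2 : 2 ≤ n) (I : GrLC.StarInjRes 𝒜 𝒜) {q : ℕ} (hq : 0 < q) {R' : Type u} [CommRing R']
    {𝒜' : ℤ → AddSubgroup R'} [GradedRing 𝒜'] {φ : R' →+* R} (hV : Ver.Sys 𝒜 𝒜' φ q)
    [LocCoh.IsGorensteinRing R'] :
    LocCoh.IsGorensteinRing R ∧
      ∃ a : ℤ, GrLC.endDeg (I.Hgr m n) = ((a : WithTop ℤ) : WithBot (WithTop ℤ)) ∧ (q : ℤ) ∣ a := by
  classical
  have hmax := FieldDeg0.isMaximal hpos h0 hmsp
  obtain ⟨E, hmin0, hmin⟩ := Bass.Rel.exists_minimal (𝒜 := 𝒜) (M := R) 𝒜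
  letI := Res.hgrDecomp E m n
  haveI := Res.hgrGSMul E m n
  obtain ⟨t₀, u, P⟩ := Pair.exists_pairing hpos h0 hmsp hV hn E
  obtain ⟨f, deg, hf, hreg⟩ := Reduction.exists_sequence hpos h0 hmsp hn hq
  have hlist : Ideal.ofList (List.ofFn f) = Ideal.span (Set.range f) :=
    congrArg Ideal.span (Set.ext fun x ↦ (List.mem_ofFn' f x))
  obtain ⟨N, hN⟩ := Reduction.exists_pow_le hpos h0 hmsp hn (deg := deg)
    (fun j ↦ ⟨(hf j).1, (hf j).2.2⟩) hreg
  have hreg' := hreg
  obtain ⟨n1, rfl⟩ := Nat.exists_eq_add_of_le' h2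
  have hle : ∀ j, (q : ℤ) ≤ deg j := fun j ↦ Int.le_of_dvd (hf j).1 (hf j).2.1
  rw [List.ofFn_succ, List.ofFn_succ, isWeaklyRegular_cons_iff, isWeaklyRegular_cons_iff] at hreg'
  obtain ⟨hreg0, hreg1, -⟩ := hreg'
  have hxy : ∀ a b : R, f (Fin.succ 0) * a = f 0 * b → ∃ c, a = f 0 * c := by
    intro a b hab
    have h1 : f (Fin.succ 0) • (Submodule.Quotient.mk a : QuotSMulTop (f 0) R) = 0 := by
      rw [← Submodule.Quotient.mk_smul, Submodule.Quotient.mk_eq_zero,
        Submodule.mem_smul_pointwise_iff_exists]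
      exact ⟨b, trivial, hab.symm⟩
    have h2 := hreg1.right_eq_zero_of_smul h1
    rw [Submodule.Quotient.mk_eq_zero, Submodule.mem_smul_pointwise_iff_exists] at h2
    obtain ⟨c, -, hc⟩ := h2
    exact ⟨c, hc.symm⟩
  have hsurj := exists_smul_eq hpos h0 hmsp hn E (hf 0).2.2 hreg0
  have hzero := fun {d : ℤ} (hd : t₀ < d) {ξ : E.H m (n1 + 2)} (hξ : ξ ∈ E.Hgr m (n1 + 2) d) ↦
    Rep.eq_zero_of_lt hpos h0 hstd hq P (hle 0) (hle (Fin.succ 0)) (hf 0).2.2 (hf (Fin.succ 0)).2.2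
      hreg0 hxy hsurj hd hξ
  refine ⟨?_, t₀, ?_, P.dvd⟩
  rotate_left
  · -- the end degree
    letI := Res.hgrDecomp I m (n1 + 2)
    refine le_antisymm ((IntGraded.endDeg_le_iff _).2 fun d hd ↦ ?_) (IntGraded.le_endDeg _ ?_)
    · rw [AddSubgroup.eq_bot_iff_forall]
      intro x hx
      have h1 : Chain.compareEquiv m I E (n1 + 2) x = 0 :=
        hzero hd (Chain.compareEquiv_grHom m I E (n1 + 2) d x hx)
      exact (LinearEquiv.map_eq_zero_iff _).1 h1
    · intro hbot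
      have h1 := Chain.compareEquiv_symm_grHom m I E (n1 + 2) t₀ u P.mem
      rw [hbot, AddSubgroup.mem_bot] at h1
      exact P.ne_zero ((LinearEquiv.map_eq_zero_iff _).1 h1)
  · -- the Bass numbers
    obtain ⟨hlow, hlen, hsocA⟩ := Local.length_ext m.toIdeal (List.ofFn f) (fun x hx ↦ by
      obtain ⟨j, rfl⟩ := (List.mem_ofFn' _ _).1 hx
      exact Reduction.mem_of_pos hpos h0 hmsp (hf j).1 (hf j).2.2) hreg (N := N) (hlist ▸ hN)
    rw [List.length_ofFn] at hlow hlen
    let A := Localization.AtPrime m.toIdeal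
    have eR : LocalizedModule m.toIdeal.primeCompl R ≃ₗ[A] A :=
      (IsLocalizedModule.iso m.toIdeal.primeCompl (Algebra.linearMap R
        A)).extendScalarsOfIsLocalization m.toIdeal.primeCompl _
    have hkey : ∀ j, Module.length A (IsLocalRing.ResidueField A →ₗ[A]
          LocalizedModule m.toIdeal.primeCompl (E.X j).carrier) =
        Module.length A (Abelian.Ext.{u} (ModuleCat.of A (IsLocalRing.ResidueField A))
          (ModuleCat.of A A) j) := fun j ↦
      (Bass.Main.bassNum_eq m E hmin0 hmin j).symm.trans (Bass.Main.length_ext_congr _ eR j)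
    have hoff : GrLC.gam m.toIdeal (E.X (n1 + 1)).carrier = ⊥ := by
      have := hlow (n1 + 1) (by omega)
      have h1 := (hkey (n1 + 1)).trans Module.length_eq_zero
      rw [Module.length_eq_zero_iff] at h1
      rw [← top_inf_eq (a := GrLC.gam m.toIdeal (E.X (n1 + 1)).carrier)]
      refine Bass.Gorenstein.inf_gam_eq_bot (𝒳 := (E.X (n1 + 1)).gr) isHomogeneous_top
        fun g x _ hxg hx ↦ ?_
      obtain ⟨χ, hχ⟩ := Bass.Gorenstein.exists_residue_hom x hx
      exact Bass.Gorenstein.hom_eq_zero hm hxg (by rw [← hχ, Subsingleton.elim χ 0, LinearMap.zero_apply])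
    have hcobdy : E.cobdy m (n1 + 2) = ⊥ := by
      show (GrLC.gam m.toIdeal (E.X (n1 + 1)).carrier).map (E.d (n1 + 1)) = ⊥
      rw [hoff, Submodule.map_bot]
    have htoH : ∀ z : E.cocyc m (n1 + 2), E.toH m (n1 + 2) z = 0 → z = 0 := fun z hz ↦ by
      have h1 := (Chain.toH_eq_zero_iff m z).1 hz
      rw [hcobdy, Submodule.mem_bot] at h1
      exact Subtype.ext h1
    obtain ⟨z₀, hz₀, hz₀u⟩ := P.mem
    have hz₀ne : z₀.1 ≠ 0 := fun h ↦ P.ne_zero (by
      rw [← hz₀u, show z₀ = 0 from Subtype.ext h, map_zero])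
    have hmd : ∀ g, ∀ y ∈ (E.X (n1 + 2)).gr g, (∀ a ∈ m.toIdeal, a • y = 0) →
        ∃ c : R, y = c • z₀.1 := by
      intro g y hy hsoc
      rcases eq_or_ne y 0 with rfl | hy0
      · exact ⟨0, (zero_smul R _).symm⟩
      have hspan : (Submodule.span R {y}).IsHomogeneous (E.X (n1 + 2)).gr :=
        isHomogeneous_span 𝒜 (E.X (n1 + 2)).gr fun x hx ↦ ⟨g, by rwa [Set.mem_singleton_iff.1 hx]⟩
      obtain ⟨w, ⟨hw1, hw2⟩, hw0⟩ := (Submodule.ne_bot_iff _).1
        (hmin (n1 + 1) _ hspan (by simpa [Submodule.span_singleton_eq_bot] using hy0))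
      obtain ⟨r, rfl⟩ := Submodule.mem_span_singleton.1 hw1
      have hrm : r ∉ m.toIdeal := fun hr ↦ hw0 (hsoc r hr)
      have hdy : E.d (n1 + 2) y = 0 := by
        refine Bass.Gorenstein.hom_eq_zero (𝒳 := (E.X (n1 + 3)).gr) hm
          (E.d_grHom (n1 + 2) g y hy) ((Bass.Local.mk_eq_zero _ _ _).2 ⟨⟨r, hrm⟩, ?_⟩)
        show r • E.d (n1 + 2) y = 0
        rw [← map_smul]
        exact LinearMap.mem_ker.1 ((E.exact_succ (n1 + 1)).ge hw2)
      let z : E.cocyc m (n1 + 2) := ⟨y, ⟨⟨1, fun a ha ↦ hsoc a (by rwa [pow_one] at ha)⟩,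
        LinearMap.mem_ker.2 hdy⟩⟩
      obtain ⟨c, hc⟩ := Rep.socle hpos h0 hstd hq P (hle 0) (hle (Fin.succ 0)) (hf 0).2.2
        (hf (Fin.succ 0)).2.2 hreg0 hxy hsurj hmsp (ξ := E.toH m (n1 + 2) z) ⟨z, hy, rfl⟩
        (fun a ha ↦ by
          rw [← map_smul, show a • z = 0 from Subtype.ext (hsoc a ha), map_zero])
      refine ⟨(c : R), ?_⟩
      have h3 : E.toH m (n1 + 2) (z - (c : R) • z₀) = 0 := by
        rw [map_sub, map_smul, hz₀u, hc]
        exact sub_self _
      exact congrArg Subtype.val (sub_eq_zero.1 (htoH _ h3))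
    have hsoc0 : ∀ a ∈ m.toIdeal, a • z₀.1 = 0 := by
      intro a ha
      rw [← sum_proj 𝒜 a, Finset.sum_smul]
      refine Finset.sum_eq_zero fun i _ ↦ ?_
      rcases lt_trichotomy i 0 with hi | rfl | hi
      · rw [(AddSubgroup.eq_bot_iff_forall _).1 (hpos i hi) _ (proj_mem 𝒜 i a), zero_smul]
      · rw [FieldDeg0.proj_zero_of_mem hpos h0 hmsp ha, zero_smul]
      · have h1 : E.toH m (n1 + 2) (proj 𝒜 i a • z₀) = 0 := by
          rw [map_smul, hz₀u]
          exact hzero (d := i + t₀) (by omega)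
            (smul_mem_add 𝒜 (E.Hgr m (n1 + 2)) (proj_mem 𝒜 i a) ⟨z₀, hz₀, hz₀u⟩)
        exact congrArg Subtype.val (htoH _ h1)
    obtain ⟨χ₀, hχ₀⟩ := Bass.Gorenstein.exists_residue_hom z₀.1 hsoc0
    have hsimple : IsSimpleModule A (IsLocalRing.ResidueField A →ₗ[A]
        LocalizedModule m.toIdeal.primeCompl (E.X (n1 + 2)).carrier) := by
      have hne : χ₀ ≠ 0 := fun h ↦ hz₀ne (Bass.Gorenstein.hom_eq_zero hm hz₀ (by
        rw [← hχ₀, h, LinearMap.zero_apply]))
      have hgen : ∀ χ : IsLocalRing.ResidueField A →ₗ[A]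
          LocalizedModule m.toIdeal.primeCompl (E.X (n1 + 2)).carrier, ∃ a : A, χ = a • χ₀ := by
        intro χ
        obtain ⟨y, t, hy, hyt⟩ := Bass.Local.exists_rep (χ 1) fun a ha ↦
          Bass.Local.smul_hom_eq_zero χ 1 ha
        obtain ⟨c, hc⟩ : ∃ c : R, y = c • z₀.1 := by
          have hcomp : ∀ g, ∃ c : R, proj (E.X (n1 + 2)).gr g y = c • z₀.1 := fun g ↦ by
            refine hmd g _ (proj_mem _ g y) fun a ha ↦ ?_
            rw [← sum_proj 𝒜 a, Finset.sum_smul]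
            refine Finset.sum_eq_zero fun i _ ↦ ?_
            have := proj_smul_of_mem 𝒜 (E.X (n1 + 2)).gr (proj_mem 𝒜 i a) (i + g) y
            rw [hy (proj 𝒜 i a) (m.isHomogeneous i ha), map_zero, add_sub_cancel_left] at this
            exact this.symm
          choose c hc using hcomp
          refine ⟨∑ g ∈ supp (E.X (n1 + 2)).gr y, c g, ?_⟩
          rw [Finset.sum_smul, ← Finset.sum_congr rfl fun g _ ↦ hc g, sum_proj]
        refine ⟨Localization.mk c t, LinearMap.ext fun b ↦ ?_⟩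
        obtain ⟨b, rfl⟩ := IsLocalRing.residue_surjective b
        rw [show IsLocalRing.residue A b = b • (1 : IsLocalRing.ResidueField A) by
          rw [Algebra.smul_def, mul_one]; rfl, map_smul, map_smul, LinearMap.smul_apply, hyt, hχ₀,
          LocalizedModule.mk_smul_mk, mul_one, hc]
      rw [isSimpleModule_iff_toSpanSingleton_surjective]
      refine ⟨⟨χ₀, 0, hne⟩, fun χ hχ ψ ↦ ?_⟩
      obtain ⟨a, rfl⟩ := hgen χ
      obtain ⟨b, rfl⟩ := hgen ψ
      have hau : IsUnit a := by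
        by_contra hau
        refine hχ (LinearMap.ext fun c ↦ ?_)
        rw [LinearMap.smul_apply, ← map_smul, Module.mem_annihilator.1
          (Goren.Basic.mem_annihilator_residueField ((IsLocalRing.mem_maximalIdeal a).2 hau)) c,
          map_zero, LinearMap.zero_apply]
      obtain ⟨v, rfl⟩ := hau
      exact ⟨b * ↑v⁻¹, by rw [LinearMap.toSpanSingleton_apply, smul_smul, mul_assoc, Units.inv_mul, mul_one]⟩
    have htop := (hkey (n1 + 2)).symm.trans (Module.length_eq_one_iff.2 hsimple)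
    rw [htop] at hlen
    exact Crit.isGorensteinRing_of_socle hpos h0 hmsp hm (List.ofFn f) (fun x hx ↦ by
      obtain ⟨j, rfl⟩ := (List.mem_ofFn' _ _).1 hx
      exact Reduction.mem_of_pos hpos h0 hmsp (hf j).1 (hf j).2.2) hreg (N := N) (hlist ▸ hN)
      (hsocA.trans hlen.symm)

end Groth.Agent.H19.Veronese.Converse
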