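import Groth.Agent.H19.Bass.Gorenstein
import Groth.Agent.Lib.Graded.Dual1
import Groth.Agent.Lib.Graded.Ver.Rank
import Groth.Agent.Lib.Graded.CMVanish
import Groth.Agent.H19.Veronese.Crit

/-!
# The pairing on the top local cohomology of a ring with Gorenstein Veronese subring
-/

set_option autoImplicit false
set_option linter.unusedSectionVars false
set_option linter.overlappingInstances false
set_option linter.style.haveILetI false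

universe u

open CategoryTheory
open Groth.Agent.Lib Groth.Agent.Lib.Graded Groth.Agent.Lib.Graded.Basic Groth.Agent.Lib.Graded.StarInj

namespace Groth.Agent.H19.Veronese.Pair

variable {R : Type u} [CommRing R] [IsNoetherianRing R] {𝒜 : ℤ → AddSubgroup R} [GradedRing 𝒜]
  {m : HomogeneousIdeal 𝒜} (hpos : ∀ n : ℤ, n < 0 → 𝒜 n = ⊥) (h0 : IsField (GrLC.deg0 𝒜))
  (hmsp : m.toIdeal = Ideal.span (⋃ n ∈ Set.Ioi (0 : ℤ), (𝒜 n : Set R)))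

include hpos h0 hmsp in
/-- Linear forms on a piece of the envelope of the residue field are ring elements. -/
theorem exists_rep_hull {E' : Type u} [AddCommGroup E'] [Module R E'] {𝓔 : ℤ → AddSubgroup E'}
    [DirectSum.Decomposition 𝓔] [SetLike.GradedSMul 𝒜 𝓔] {e : (R ⧸ m.toIdeal) →ₗ[R] E'}
    (he : GrLC.IsStarInjHull 𝒜 (GrLC.quotGr 𝒜 m) 𝓔 e) (d : ℤ) :
    (∀ Z : GrLC.comp 𝒜 𝓔 d →ₗ[GrLC.deg0 𝒜] GrLC.deg0 𝒜,
      ∃ r ∈ 𝒜 (-d), ∀ ξ : GrLC.comp 𝒜 𝓔 d, r • (ξ : E') = Z ξ • Dual0.u1 e) ∧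
      ∀ r ∈ 𝒜 (-d), (∀ ξ ∈ 𝓔 d, r • ξ = 0) → r = 0 := by
  classical
  letI := h0.toField
  let k := GrLC.deg0 𝒜
  have hw : ∀ (ξ : GrLC.comp 𝒜 𝓔 d) (g : ℤ) (x : R), x ∈ 𝒜 g → x • (ξ : E') ∈ 𝓔 (g + d) :=
    fun ξ g x hx ↦ smul_mem_add 𝒜 𝓔 hx ξ.2
  let Ψ : GrLC.comp 𝒜 𝓔 d →ₗ[k] GrLC.homDeg 𝒜 𝒜 𝓔 d :=
    { toFun := fun ξ ↦ ⟨LinearMap.toSpanSingleton R E' ξ.1, fun g x hx ↦ hw ξ g x hx⟩
      map_add' := fun ξ η ↦ Subtype.ext (LinearMap.ext fun x ↦ smul_add x ξ.1 η.1)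
      map_smul' := fun c ξ ↦ Subtype.ext (LinearMap.ext fun x ↦ smul_comm x (c : R) ξ.1) }
  have hΨ : Function.Bijective Ψ := by
    refine ⟨fun ξ η hξη ↦ Subtype.ext ?_, fun f ↦ ?_⟩
    · have h1 : (1 : R) • ξ.1 = (1 : R) • η.1 := LinearMap.congr_fun (congrArg Subtype.val hξη) 1
      rwa [one_smul, one_smul] at h1
    · refine ⟨⟨f.1 1, show _ ∈ 𝓔 d by simpa using f.2 0 1 (SetLike.one_mem_graded 𝒜)⟩,
        Subtype.ext (LinearMap.ext fun x ↦ ?_)⟩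
      show x • f.1 1 = f.1 x
      rw [← map_smul, smul_eq_mul, mul_one]
  let Φ : GrLC.comp 𝒜 𝓔 d ≃ₗ[k] Module.Dual k (GrLC.comp 𝒜 𝒜 (-d)) :=
    (LinearEquiv.ofBijective Ψ hΨ).trans (Dual0.equiv hpos h0 hmsp he d)
  have hΦ : ∀ (ξ : GrLC.comp 𝒜 𝓔 d) (r : GrLC.comp 𝒜 𝒜 (-d)), (r : R) • (ξ : E') = Φ ξ r • Dual0.u1 e := by
    intro ξ r
    exact (congrArg Subtype.val ((Dual0.line hpos h0 hmsp he.toIsStarEss).apply_symm_apply
      ⟨(r : R) • (ξ : E'), show _ ∈ 𝓔 0 by simpa using hw ξ (-d) r r.2⟩)).symm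
  have : IsNoetherian k (GrLC.comp 𝒜 𝒜 (-d)) := Pieces.isNoetherian_comp 𝒜 𝒜 (-d)
  refine ⟨fun Z ↦ ?_, fun r hr hr0 ↦ ?_⟩
  · let r := (Module.evalEquiv k (GrLC.comp 𝒜 𝒜 (-d))).symm (Z ∘ₗ Φ.symm.toLinearMap)
    refine ⟨r.1, r.2, fun ξ ↦ ?_⟩
    rw [hΦ ξ r]
    have h1 : Φ ξ r = Z (Φ.symm (Φ ξ)) :=
      LinearMap.congr_fun ((Module.evalEquiv k _).apply_symm_apply (Z ∘ₗ Φ.symm.toLinearMap)) (Φ ξ)
    rw [h1, LinearEquiv.symm_apply_apply]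
  · refine congrArg Subtype.val ((Module.forall_dual_apply_eq_zero_iff k
      (⟨r, hr⟩ : GrLC.comp 𝒜 𝒜 (-d))).1 fun l ↦ ?_)
    obtain ⟨ξ, rfl⟩ := Φ.surjective l
    by_contra hne
    have h1 := hΦ ξ ⟨r, hr⟩
    rw [hr0 ξ.1 ξ.2] at h1
    obtain ⟨c, hc⟩ := h0.mul_inv_cancel hne
    refine Dual0.u1_ne_zero hpos h0 hmsp he.toIsStarEss ?_
    rw [← one_smul k (Dual0.u1 e), ← hc, mul_comm, mul_smul, ← h1, smul_zero]

variable {R' : Type u} [CommRing R'] {𝒜' : ℤ → AddSubgroup R'} [GradedRing 𝒜'] {φ : R' →+* R} {q : ℕ}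

/-- The pairing of the degrees divisible by `q` into the socle degree `t₀` of a module. -/
structure IsPairing (q : ℕ) {H : Type u} [AddCommGroup H] [Module R H] (ℋ : ℤ → AddSubgroup H)
    [SetLike.GradedSMul 𝒜 ℋ] (t₀ : ℤ) (u : H) : Prop where
  dvd : (q : ℤ) ∣ t₀
  mem : u ∈ ℋ t₀
  ne_zero : u ≠ 0
  line : ∀ x ∈ ℋ t₀, ∃ c : GrLC.deg0 𝒜, x = c • u
  rep : ∀ l : ℤ, (q : ℤ) ∣ l → ∀ Z : GrLC.comp 𝒜 ℋ (t₀ - l) →ₗ[GrLC.deg0 𝒜] GrLC.deg0 𝒜,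
    ∃ α ∈ 𝒜 l, ∀ ξ : GrLC.comp 𝒜 ℋ (t₀ - l), α • (ξ : H) = Z ξ • u
  inj : ∀ l : ℤ, (q : ℤ) ∣ l → ∀ α ∈ 𝒜 l, (∀ ξ ∈ ℋ (t₀ - l), α • ξ = 0) → α = 0

include hpos h0 hmsp in
/-- A Gorenstein Veronese subring gives a pairing on the top local cohomology. -/
theorem exists_pairing [LocCoh.IsCohenMacaulayRing R] [LocCoh.IsGorensteinRing R']
    (h : Ver.Sys 𝒜 𝒜' φ q) {n : ℕ} (hn : ringKrullDim R = n) (E : GrLC.StarInjRes 𝒜 𝒜) :
    haveI := Res.hgrGSMul E m n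
    ∃ t₀ u, IsPairing (𝒜 := 𝒜) q (E.Hgr m n) t₀ u := by
  classical
  haveI := Res.hgrGSMul E m n
  have hpos' : ∀ j : ℤ, j < 0 → 𝒜' j = ⊥ := fun j hj ↦ (AddSubgroup.eq_bot_iff_forall _).2 fun x hx ↦ by
    have h1 := h.map_mem hx
    rw [hpos (j * q) (mul_neg_of_neg_of_pos hj (by exact_mod_cast h.pos)), AddSubgroup.mem_bot] at h1
    exact h.injective (h1.trans (map_zero φ).symm)
  let σ := h.deg0Equiv
  have h0' : IsField (GrLC.deg0 𝒜') := σ.toMulEquiv.isField h0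
  have := h.isNoetherianRing
  let m' : HomogeneousIdeal 𝒜' := ⟨Ideal.span (⋃ j ∈ Set.Ioi (0 : ℤ), (𝒜' j : Set R')),
    Ideal.homogeneous_span 𝒜' _ fun x hx ↦ by
      obtain ⟨j, -, hxj⟩ := Set.mem_iUnion₂.1 hx
      exact ⟨j, hxj⟩⟩
  have hm'sp : m'.toIdeal = Ideal.span (⋃ j ∈ Set.Ioi (0 : ℤ), (𝒜' j : Set R')) := rfl
  have hmax := FieldDeg0.isMaximal hpos' h0' hm'sp
  have hm' : GrLC.IsStarLocal 𝒜' m' := by
    refine ⟨⟨fun hc ↦ hmax.ne_top (congrArg HomogeneousIdeal.toIdeal hc), fun K hK ↦ ?_⟩,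
      fun K hK ↦ ?_⟩
    · by_contra hne
      exact hK.not_ge (FieldDeg0.le_of_ne_top hpos' h0' hm'sp K fun hc ↦
        hne (HomogeneousIdeal.ext hc))
    · have hle : K ≤ m' := FieldDeg0.le_of_ne_top hpos' h0' hm'sp K fun hc ↦
        hK.1 (HomogeneousIdeal.ext hc)
      rcases hle.eq_or_lt with heq | hlt
      · exact heq
      · exact absurd (hK.2 m' hlt) fun hc ↦ hmax.ne_top (congrArg HomogeneousIdeal.toIdeal hc)
  obtain ⟨n', hn'⟩ : ∃ n' : ℕ, (n' : ℕ∞) = m'.toIdeal.height :=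
    ENat.ne_top_iff_exists.1 (Ideal.height_ne_top hmax.ne_top)
  letI := HullPrime.quotDecomp m'
  haveI := HullPrime.quotGSMul m'
  obtain ⟨F, -, -⟩ := Bass.Rel.exists_minimal (𝒜 := 𝒜') (M := R') 𝒜'
  obtain ⟨X', e, he⟩ := StarInj.exists_hull 𝒜' (GrLC.quotGr 𝒜' m')
  let E' := X'.carrier
  let 𝓔 := X'.gr
  obtain ⟨g, Φ, hΦ⟩ := Bass.Gorenstein.exists_top_equiv hm' n' hn'.symm F E' 𝓔 e he
  have hu1 := Dual0.u1_mem (e := e) he.toIsStarEss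
  have hu1ne := Dual0.u1_ne_zero hpos' h0' hm'sp he.toIsStarEss
  letI := Res.hgrDecomp F m' n'
  haveI := Res.hgrGSMul F m' n'
  letI := Res.hgrDecomp E m n'
  have hΦ' : ∀ d, ∀ y ∈ 𝓔 d, Φ.symm y ∈ F.Hgr m' n' (d - g) := by
    intro d y hy
    have h1 := map_proj_deg hΦ (d - g) (Φ.symm y)
    rw [sub_add_cancel, show (Φ : F.H m' n' →ₗ[R'] E') (Φ.symm y) = y from Φ.apply_symm_apply y,
      proj_of_mem 𝓔 hy] at h1
    have h2 := congrArg Φ.symm h1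
    rw [show Φ.symm ((Φ : F.H m' n' →ₗ[R'] E') (proj (F.Hgr m' n') (d - g) (Φ.symm y))) =
      proj (F.Hgr m' n') (d - g) (Φ.symm y) from Φ.symm_apply_apply _] at h2
    rw [← h2]
    exact proj_mem _ _ _
  obtain ⟨Θ, hΘ⟩ : ∃ Θ : F.H m' n' →ₛₗ[φ] E.H m n', Ver.IsVer q (E.Hgr m n') (F.Hgr m' n') Θ :=
    Ver.exists_theta h hmsp hm'sp n' (GrLC.GMod.of 𝒜 R 𝒜) (GrLC.GMod.of 𝒜' R' 𝒜')
    (Ver.algMap φ) ⟨h.injective, h.deg⟩ E F
  let u : E.H m n' := Θ (Φ.symm (Dual0.u1 e))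
  have humem : u ∈ E.Hgr m n' (-g * q) := by
    have := hΘ.map_mem (hΦ' 0 _ hu1)
    rwa [zero_sub] at this
  have hune : u ≠ 0 := fun hu ↦ hu1ne (Φ.symm.injective ((hΘ.injective (hu.trans
    (map_zero Θ).symm)).trans (map_zero Φ.symm).symm))
  obtain rfl : n' = n := by
    by_contra hne
    refine hune ?_
    have hV : E.Hgr m n' (-g * q) = ⊥ := by
      refine (Van.V_toMod_iff E).1 ?_
      rcases lt_or_gt_of_ne hne with hlt | hgt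
      · exact CMVanish.V_of_lt_idealDepth _ (by
          rw [FieldDeg0.idealDepth_eq hpos h0 hmsp hn]; exact_mod_cast hlt)
      · exact CMVanish.V_of_supportDim_lt _ (by
          rw [Module.supportDim_self_eq_ringKrullDim, hn]; exact_mod_cast hgt)
    rw [hV, AddSubgroup.mem_bot] at humem
    exact humem
  have hσ : ∀ (c : GrLC.deg0 𝒜') (x : F.H m' n'), Θ (c • x) = σ c • Θ x :=
    fun c x ↦ Θ.map_smulₛₗ (c : R') x
  refine ⟨-g * q, u, dvd_mul_left _ _, humem, hune, ?_, ?_, ?_⟩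
  · intro x hx
    obtain ⟨y, hy, rfl⟩ := hΘ.exists_preimage hx
    have hy0 : Φ y ∈ 𝓔 0 := by simpa using hΦ _ y hy
    obtain ⟨c, hc⟩ := Dual0.eq_smul_u1 hpos' h0' hm'sp he.toIsStarEss hy0
    refine ⟨σ c, ?_⟩
    rw [← hσ]
    refine congrArg Θ (Φ.injective ?_)
    rw [hc]
    exact ((Φ.map_smul (c : R') _).trans (congrArg ((c : R') • ·) (Φ.apply_symm_apply _))).symm
  · rintro l ⟨i, rfl⟩ Z
    have hdeg : ∀ ξ ∈ 𝓔 (-i), Θ (Φ.symm ξ) ∈ E.Hgr m n' (-g * q - q * i) := fun ξ hξ ↦ by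
      have := hΘ.map_mem (hΦ' _ ξ hξ)
      rwa [show (-i - g) * (q : ℤ) = -g * q - q * i by ring] at this
    let Z' : GrLC.comp 𝒜' 𝓔 (-i) →ₗ[GrLC.deg0 𝒜'] GrLC.deg0 𝒜' :=
      { toFun := fun ξ ↦ σ.symm (Z ⟨Θ (Φ.symm ξ.1), hdeg ξ.1 ξ.2⟩)
        map_add' := fun ξ η ↦ by
          rw [← map_add σ.symm, ← map_add Z]
          refine congrArg σ.symm (congrArg Z (Subtype.ext ?_))
          show Θ (Φ.symm (ξ.1 + η.1)) = _
          rw [map_add, map_add]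
          rfl
        map_smul' := fun c ξ ↦ by
          refine σ.injective ?_
          rw [RingHom.id_apply, smul_eq_mul, map_mul, RingEquiv.apply_symm_apply,
            RingEquiv.apply_symm_apply]
          refine (congrArg Z (Subtype.ext ?_)).trans (map_smul Z (σ c) _)
          show Θ (Φ.symm ((c : R') • ξ.1)) = _
          rw [map_smul Φ.symm]
          exact hσ c _ }
    obtain ⟨r, hr, hrep⟩ := (exists_rep_hull hpos' h0' hm'sp he (-i)).1 Z'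
    rw [neg_neg] at hr
    refine ⟨φ r, by simpa [mul_comm] using h.map_mem hr, fun ξ ↦ ?_⟩
    obtain ⟨y, hy, hyξ⟩ := hΘ.exists_preimage (show (ξ : E.H m n') ∈ E.Hgr m n' ((-g - i) * q) by
      rw [show (-g - i) * (q : ℤ) = -g * q - q * i by ring]; exact ξ.2)
    have hy' : Φ y ∈ 𝓔 (-i) := by
      have := hΦ _ y hy
      rwa [show -g - i + g = -i by ring] at this
    have h1 : r • y = ((Z' ⟨Φ y, hy'⟩ : GrLC.deg0 𝒜') : R') • Φ.symm (Dual0.u1 e) :=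
      Φ.injective (by rw [map_smul, map_smul, Φ.apply_symm_apply]; exact hrep ⟨Φ y, hy'⟩)
    have h2 := congrArg Θ h1
    rw [LinearMap.map_smulₛₗ, LinearMap.map_smulₛₗ, hyξ] at h2
    rw [h2]
    show σ (σ.symm (Z ⟨Θ (Φ.symm (Φ y)), _⟩)) • u = Z ξ • u
    rw [RingEquiv.apply_symm_apply]
    exact congrArg (fun t ↦ Z t • u) (Subtype.ext (by
      show Θ (Φ.symm (Φ y)) = ξ.1
      rw [LinearEquiv.symm_apply_apply, hyξ]))
  · rintro l ⟨i, rfl⟩ α hα hα0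
    obtain ⟨r, hr, rfl⟩ := h.exists_preimage (j := i) (r := α) (by rwa [mul_comm])
    rw [(exists_rep_hull hpos' h0' hm'sp he (-i)).2 r (by rwa [neg_neg]) fun ξ hξ ↦ ?_, map_zero]
    refine Φ.symm.injective (hΘ.injective ?_)
    rw [map_zero, map_zero, map_smul Φ.symm, LinearMap.map_smulₛₗ]
    refine hα0 _ ?_
    have := hΘ.map_mem (hΦ' _ ξ hξ)
    rwa [show (-i - g) * (q : ℤ) = -g * q - q * i by ring] at this

end Groth.Agent.H19.Veronese.Pair
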