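import Groth.Agent.H19.Bass.GorLocal
import Groth.Agent.H19.Bass.Main
import Groth.Agent.Lib.LCFin.Seq
import Mathlib.RingTheory.Regular.RegularSequence

/-!
# `Ext` out of the residue field and regular sequences
-/

set_option autoImplicit false
set_option linter.style.haveILetI false

universe u

open CategoryTheory IsLocalRing RingTheory.Sequence
open scoped Pointwise
open Groth.Agent.Lib

namespace Groth.Agent.H19.Veronese.RegQuot

variable {A : Type u} [CommRing A] [IsLocalRing A]

/-- A regular sequence of length `t` moves `Ext^n(k, -)` to `Ext^{n-t}(k, -)`. -/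
theorem length_ext_quot : ∀ (L : List A) (Q : Type u) [AddCommGroup Q] [Module A Q] (n : ℕ),
    (∀ x ∈ L, x ∈ maximalIdeal A) → IsWeaklyRegular Q L → L.length ≤ n →
    (∀ i < n, Subsingleton (Abelian.Ext.{u} (ModuleCat.of A (ResidueField A)) (ModuleCat.of A Q) i)) →
    Module.length A (Abelian.Ext.{u} (ModuleCat.of A (ResidueField A))
        (ModuleCat.of A (Q ⧸ Ideal.ofList L • (⊤ : Submodule A Q))) (n - L.length)) =
      Module.length A (Abelian.Ext.{u} (ModuleCat.of A (ResidueField A)) (ModuleCat.of A Q) n) := by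
  intro L
  induction L with
  | nil =>
    intro Q _ _ n _ _ _ _
    rw [List.length_nil, Nat.sub_zero]
    exact Bass.Main.length_ext_congr _ (Submodule.quotEquivOfEqBot _ (by simp)) n
  | cons x L ih =>
    intro Q _ _ n hmem hreg hlen hlow
    rw [isWeaklyRegular_cons_iff] at hreg
    simp only [List.mem_cons, forall_eq_or_imp] at hmem
    obtain ⟨d, rfl⟩ : ∃ d, n = d + 1 := ⟨n - 1, by simp only [List.length_cons] at hlen; omega⟩
    rw [List.length_cons, Nat.add_sub_add_right,
      Bass.Main.length_ext_congr _ (Submodule.quotOfListConsSMulTopEquivQuotSMulTopInner Q x L) _]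
    let k := ModuleCat.of A (ResidueField A)
    let μ : Q →ₗ[A] Q := x • LinearMap.id
    let π : Q →ₗ[A] QuotSMulTop x Q := Submodule.mkQ _
    have hμinj : Function.Injective μ := fun b c h ↦ hreg.1 h
    have hex : Function.Exact μ π := fun b ↦ by
      rw [Submodule.mkQ_apply, Submodule.Quotient.mk_eq_zero, Submodule.mem_smul_pointwise_iff_exists]
      exact ⟨fun ⟨c, _, hc⟩ ↦ ⟨c, hc⟩, fun ⟨c, hc⟩ ↦ ⟨c, trivial, hc⟩⟩
    have hS := LCFin.Seq.ses_shortExact hμinj (Submodule.mkQ_surjective _) hex
    have hkill : ∀ {i : ℕ} (w : Abelian.Ext.{u} k (ModuleCat.of A Q) i),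
        w.comp (Abelian.Ext.mk₀ (ModuleCat.ofHom μ)) (add_zero i) = 0 := fun {i} w ↦ by
      rw [show ModuleCat.ofHom μ = x • 𝟙 (ModuleCat.of A Q) from rfl,
        ← Abelian.Ext.smul_eq_comp_mk₀]
      exact Depth.Ext.smul_eq_zero_of_annihilator_src
        (Goren.Basic.mem_annihilator_residueField hmem.1) w
    have hlow' : ∀ i < d, Subsingleton
        (Abelian.Ext.{u} k (ModuleCat.of A (QuotSMulTop x Q)) i) := fun i hi ↦ by
      refine subsingleton_of_forall_eq 0 fun y ↦ ?_
      obtain ⟨z, rfl⟩ := Abelian.Ext.covariant_sequence_exact₃ k hS y rfl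
        ((hlow (i + 1) (by omega)).elim _ _)
      rw [(hlow i (by omega)).elim z 0, Abelian.Ext.zero_comp]
    rw [ih (QuotSMulTop x Q) d hmem.2 hreg.2 (by simp only [List.length_cons] at hlen; omega) hlow']
    let δ : Abelian.Ext.{u} k (ModuleCat.of A (QuotSMulTop x Q)) d →ₗ[A]
        Abelian.Ext.{u} k (ModuleCat.of A Q) (d + 1) :=
      { toFun := fun y ↦ y.comp hS.extClass rfl
        map_add' := fun _ _ ↦ Abelian.Ext.add_comp ..
        map_smul' := fun _ _ ↦ Abelian.Ext.smul_comp .. }
    refine (LinearEquiv.ofBijective δ ⟨?_, fun w ↦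
      Abelian.Ext.covariant_sequence_exact₁ k hS w (hkill w) rfl⟩).length_eq
    rw [← LinearMap.ker_eq_bot, Submodule.eq_bot_iff]
    intro y hy
    obtain ⟨z, rfl⟩ := Abelian.Ext.covariant_sequence_exact₃ k hS y rfl hy
    rw [(hlow d d.lt_succ_self).elim z 0, Abelian.Ext.zero_comp]

/-- A regular sequence as long as the vanishing computes `Ext^n(k, Q)` as the socle of the quotient. -/
theorem length_hom_quot (L : List A) (Q : Type u) [AddCommGroup Q] [Module A Q]
    (hmem : ∀ x ∈ L, x ∈ maximalIdeal A) (hreg : IsWeaklyRegular Q L)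
    (hlow : ∀ i < L.length,
      Subsingleton (Abelian.Ext.{u} (ModuleCat.of A (ResidueField A)) (ModuleCat.of A Q) i)) :
    Module.length A (ResidueField A →ₗ[A] (Q ⧸ Ideal.ofList L • (⊤ : Submodule A Q))) =
      Module.length A (Abelian.Ext.{u} (ModuleCat.of A (ResidueField A)) (ModuleCat.of A Q) L.length) := by
  rw [← (LCFin.ExtLoc.homEquiv _ _).length_eq]
  have := length_ext_quot L Q L.length hmem hreg le_rfl hlow
  rwa [Nat.sub_self] at this

end Groth.Agent.H19.Veronese.RegQuot
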