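import Groth.Agent.H19.Veronese.Pair
import Groth.Agent.H19.Veronese.Macaulay

/-!
# Extending the pairing to every degree by depth two
-/

set_option autoImplicit false
set_option linter.unusedSectionVars false
set_option linter.overlappingInstances false
set_option linter.style.haveILetI false

universe u

open Groth.Agent.Lib Groth.Agent.Lib.Graded Groth.Agent.Lib.Graded.Basic

namespace Groth.Agent.H19.Veronese.Rep

variable {R : Type u} [CommRing R] {𝒜 : ℤ → AddSubgroup R} [GradedRing 𝒜]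
  (hpos : ∀ n : ℤ, n < 0 → 𝒜 n = ⊥) (h0 : IsField (GrLC.deg0 𝒜))
  (hstd : Ideal.span (⋃ n ∈ Set.Ioi (0 : ℤ), (𝒜 n : Set R)) = Ideal.span ((𝒜 1 : AddSubgroup R) : Set R))

include hstd in
/-- In a standard graded ring a piece is generated by products from two lower ones. -/
theorem mem_of_split {ε : ℤ} (hε : 0 ≤ ε) : ∀ (j : ℕ) (S : AddSubmonoid R),
    (∀ a ∈ 𝒜 ε, ∀ b ∈ 𝒜 (j : ℤ), a * b ∈ S) → ∀ x ∈ 𝒜 (ε + j), x ∈ S := by
  intro j
  induction j with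
  | zero =>
    intro S hS x hx
    simpa using hS x (by simpa using hx) 1 (SetLike.one_mem_graded 𝒜)
  | succ j ih =>
    intro S hS x hx
    refine Macaulay.mem_of_std hstd (i := ε + j) (by omega) S (fun a ha b hb ↦ ?_)
      (by rwa [Nat.cast_succ, ← add_assoc] at hx)
    refine ih (S.comap (AddMonoidHom.mulRight a)) (fun c hc d hd ↦ ?_) b hb
    show c * d * a ∈ S
    rw [mul_assoc]
    refine hS c hc _ ?_
    rw [Nat.cast_succ]
    exact SetLike.mul_mem_graded hd ha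

include hstd in
theorem mem_of_split' {ε d : ℤ} (hε : 0 ≤ ε) (hd : ε ≤ d) (S : AddSubmonoid R)
    (hS : ∀ a ∈ 𝒜 ε, ∀ b ∈ 𝒜 (d - ε), a * b ∈ S) {x : R} (hx : x ∈ 𝒜 d) : x ∈ S := by
  obtain ⟨j, rfl⟩ := Int.le.dest hd
  exact mem_of_split hstd hε j S (by simpa using hS) x hx

include hstd in
/-- What a piece kills is killed by every regular element of higher degree. -/
theorem eq_zero_of_piece_mul {ε k : ℤ} (hε : 0 ≤ ε) (hεk : ε ≤ k) {x : R} (hx : x ∈ 𝒜 k)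
    (hxreg : IsSMulRegular R x) {D : R} (hD : ∀ v ∈ 𝒜 ε, v * D = 0) : D = 0 := by
  have hxD : x * D = 0 := mem_of_split' hstd hε hεk
    (AddMonoidHom.mker (AddMonoidHom.mulRight D)) (fun a ha b _ ↦ by
      show a * b * D = 0
      rw [mul_right_comm, hD a ha, zero_mul]) hx
  exact hxreg.right_eq_zero_of_smul hxD

variable {q : ℕ} (hq : 0 < q) {H : Type u} [AddCommGroup H] [Module R H] {ℋ : ℤ → AddSubgroup H}
  [DirectSum.Decomposition ℋ] [SetLike.GradedSMul 𝒜 ℋ] {t₀ : ℤ} {u : H}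
  (P : Pair.IsPairing (𝒜 := 𝒜) q ℋ t₀ u)
  {k₁ k₂ : ℤ} (hk₁ : (q : ℤ) ≤ k₁) (hk₂ : (q : ℤ) ≤ k₂) {x y : R} (hx : x ∈ 𝒜 k₁) (hy : y ∈ 𝒜 k₂)
  (hxreg : IsSMulRegular R x) (hxy : ∀ a b : R, y * a = x * b → ∃ c, a = x * c)
  (hsurj : ∀ ξ : H, ∃ η : H, x • η = ξ)

include hstd hq P hk₁ hk₂ hx hy hxreg hxy hsurj in
/-- The pairing reaches every degree. -/
theorem exists_rep (i : ℤ) (Z : GrLC.comp 𝒜 ℋ (t₀ - i) →ₗ[GrLC.deg0 𝒜] GrLC.deg0 𝒜) :
    ∃ α ∈ 𝒜 i, ∀ ξ : GrLC.comp 𝒜 ℋ (t₀ - i), α • (ξ : H) = Z ξ • u := by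
  classical
  have hq0 : (q : ℤ) ≠ 0 := by exact_mod_cast hq.ne'
  obtain ⟨ε, hε0, hεq, hεi⟩ : ∃ ε : ℤ, 0 ≤ ε ∧ ε < q ∧ (q : ℤ) ∣ i + ε :=
    ⟨-i % q, Int.emod_nonneg _ hq0, Int.emod_lt_of_pos _ (by exact_mod_cast hq), by
      have := Int.dvd_self_sub_emod (x := -i) (m := (q : ℤ))
      rw [← dvd_neg]
      rwa [neg_add']⟩
  have hwmem : ∀ w ∈ 𝒜 ε, ∀ ξ ∈ ℋ (t₀ - (i + ε)), w • ξ ∈ ℋ (t₀ - i) := fun w hw ξ hξ ↦ by
    have := smul_mem_add 𝒜 ℋ hw hξ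
    rwa [show ε + (t₀ - (i + ε)) = t₀ - i by ring] at this
  have hex : ∀ w : GrLC.comp 𝒜 𝒜 ε, ∃ α ∈ 𝒜 (i + ε), ∀ ξ : GrLC.comp 𝒜 ℋ (t₀ - (i + ε)),
      α • (ξ : H) = Z ⟨(w : R) • (ξ : H), hwmem w w.2 ξ ξ.2⟩ • u := fun w ↦ by
    refine P.rep (i + ε) hεi
      { toFun := fun ξ ↦ Z ⟨(w : R) • (ξ : H), hwmem w w.2 ξ ξ.2⟩
        map_add' := fun ξ η ↦ by
          rw [← map_add Z]
          exact congrArg Z (Subtype.ext (smul_add (w : R) ξ.1 η.1))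
        map_smul' := fun c ξ ↦ (congrArg Z (Subtype.ext (smul_comm (w : R) (c : R) ξ.1))).trans
          (map_smul Z c _) }
  choose α hα hαZ using hex
  -- compatibility
  have hcomp : ∀ w w' : GrLC.comp 𝒜 𝒜 ε, (w : R) * α w' = w' * α w := by
    intro w w'
    obtain ⟨ε', hε'0, hε'q, hε'i⟩ : ∃ ε' : ℤ, 0 ≤ ε' ∧ ε' < q ∧ (q : ℤ) ∣ i + ε + ε + ε' :=
      ⟨-(i + ε + ε) % q, Int.emod_nonneg _ hq0, Int.emod_lt_of_pos _ (by exact_mod_cast hq), by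
        have := Int.dvd_self_sub_emod (x := -(i + ε + ε)) (m := (q : ℤ))
        rw [← dvd_neg]
        rwa [neg_add']⟩
    refine sub_eq_zero.1 (eq_zero_of_piece_mul hstd hε'0 (hε'q.le.trans hk₁) hx hxreg fun v hv ↦ ?_)
    refine P.inj _ hε'i _ ?_ fun ξ hξ ↦ ?_
    · rw [show i + ε + ε + ε' = ε' + (ε + (i + ε)) by ring]
      exact SetLike.mul_mem_graded hv (sub_mem (SetLike.mul_mem_graded w.2 (hα w'))
        (SetLike.mul_mem_graded w'.2 (hα w)))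
    · have hv' : ∀ z ∈ 𝒜 ε, v • z • ξ ∈ ℋ (t₀ - (i + ε)) := fun z hz ↦ by
        have := smul_mem_add 𝒜 ℋ hv (smul_mem_add 𝒜 ℋ hz hξ)
        rwa [show ε' + (ε + (t₀ - (i + ε + ε + ε'))) = t₀ - (i + ε) by ring] at this
      rw [mul_sub, sub_smul, show v * ((w : R) * α w') = α w' * (v * w) by ring,
        show v * ((w' : R) * α w) = α w * (v * w') by ring, mul_smul, mul_smul, mul_smul, mul_smul,
        hαZ w' ⟨_, hv' w w.2⟩, hαZ w ⟨_, hv' w' w'.2⟩, sub_eq_zero]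
      refine congrArg (fun t ↦ Z t • u) (Subtype.ext ?_)
      show (w' : R) • v • (w : R) • ξ = (w : R) • v • (w' : R) • ξ
      rw [← mul_smul, ← mul_smul, ← mul_smul, ← mul_smul]
      congr 1
      ring
  -- the compatible family is multiplication by an element
  have key : ∀ {d : ℤ}, ε ≤ d → ∀ z ∈ 𝒜 d,
      ∃ A, ∀ w : GrLC.comp 𝒜 𝒜 ε, (w : R) * A = z * α w := fun {d} hd z hz ↦
    mem_of_split' hstd hε0 hd
      { carrier := {z | ∃ A, ∀ w : GrLC.comp 𝒜 𝒜 ε, (w : R) * A = z * α w}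
        add_mem' := by
          rintro z z' ⟨A, hA⟩ ⟨B, hB⟩
          exact ⟨A + B, fun w ↦ by rw [mul_add, hA, hB, add_mul]⟩
        zero_mem' := ⟨0, fun w ↦ by rw [mul_zero, zero_mul]⟩ }
      (fun a ha b _ ↦ ⟨b * α ⟨a, ha⟩, fun w ↦ by linear_combination b * hcomp w ⟨a, ha⟩⟩) hz
  obtain ⟨A, hA⟩ := key (hεq.le.trans hk₁) x hx
  obtain ⟨B, hB⟩ := key (hεq.le.trans hk₂) y hy
  have hAB : y * A = x * B := sub_eq_zero.1 <|
    eq_zero_of_piece_mul hstd hε0 (hεq.le.trans hk₁) hx hxreg fun w hw ↦ by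
      linear_combination y * hA ⟨w, hw⟩ - x * hB ⟨w, hw⟩
  obtain ⟨c, hc⟩ := hxy A B hAB
  have hαc : ∀ w : GrLC.comp 𝒜 𝒜 ε, α w = w * proj 𝒜 i c := fun w ↦ by
    have h1 : α w = w * c := hxreg (show x * α w = x * (w * c) by
      linear_combination (w : R) * hc - hA w)
    have h2 := congrArg (proj 𝒜 (i + ε)) h1
    rwa [proj_of_mem 𝒜 (hα w), show (w : R) * c = (w : R) • c from rfl, proj_smul_of_mem 𝒜 𝒜 w.2,
      add_sub_cancel_right, smul_eq_mul] at h2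
  refine ⟨proj 𝒜 i c, proj_mem 𝒜 i c, ?_⟩
  -- the piece is generated by `R_ε`
  let T : AddSubgroup (GrLC.comp 𝒜 ℋ (t₀ - i)) :=
    { carrier := {ξ | proj 𝒜 i c • (ξ : H) = Z ξ • u}
      add_mem' := fun {a b} ha hb ↦ by
        show _ • ((a : H) + b) = _
        rw [smul_add, map_add, add_smul, show _ = _ from ha, show _ = _ from hb]
      zero_mem' := by
        show _ • (0 : H) = _
        rw [smul_zero, map_zero, zero_smul]
      neg_mem' := fun {a} ha ↦ by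
        show _ • (-(a : H)) = _
        rw [smul_neg, map_neg, neg_smul, show _ = _ from ha] }
  suffices key' : ∀ ξ ∈ ℋ (t₀ - i), ξ ∈ T.map (GrLC.comp 𝒜 ℋ (t₀ - i)).subtype.toAddMonoidHom by
    intro ξ
    obtain ⟨η, hη, hηξ⟩ := key' ξ.1 ξ.2
    rw [← show η = ξ from Subtype.ext hηξ]
    exact hη
  intro ξ hξ
  obtain ⟨η, rfl⟩ := hsurj ξ
  rw [← proj_of_mem ℋ hξ, proj_smul_of_mem 𝒜 ℋ hx]
  exact mem_of_split' hstd hε0 (hεq.le.trans hk₁)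
    { carrier := {z | z • proj ℋ (t₀ - i - k₁) η ∈ T.map (GrLC.comp 𝒜 ℋ (t₀ - i)).subtype.toAddMonoidHom}
      add_mem' := fun {z z'} hz hz' ↦ by
        simp only [Set.mem_setOf_eq] at hz hz' ⊢
        rw [add_smul]
        exact add_mem hz hz'
      zero_mem' := by
        simp only [Set.mem_setOf_eq]
        rw [zero_smul]
        exact zero_mem _ }
    (fun a ha b hb ↦ by
      have hξ' : b • proj ℋ (t₀ - i - k₁) η ∈ ℋ (t₀ - (i + ε)) := by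
        have := smul_mem_add 𝒜 ℋ hb (proj_mem ℋ (t₀ - i - k₁) η)
        rwa [show k₁ - ε + (t₀ - i - k₁) = t₀ - (i + ε) by ring] at this
      refine ⟨⟨a • b • proj ℋ (t₀ - i - k₁) η, hwmem a ha _ hξ'⟩, ?_, (mul_smul a b _).symm⟩
      show proj 𝒜 i c • a • b • proj ℋ (t₀ - i - k₁) η = _
      rw [← mul_smul, mul_comm, ← hαc ⟨a, ha⟩]
      exact hαZ ⟨a, ha⟩ ⟨_, hξ'⟩) hx

include hpos h0 hstd hq P hk₁ hk₂ hx hy hxreg hxy hsurj in
/-- Nothing lives above the socle degree. -/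
theorem eq_zero_of_lt {d : ℤ} (hd : t₀ < d) {ξ : H} (hξ : ξ ∈ ℋ d) : ξ = 0 := by
  letI := h0.toField
  obtain ⟨i, rfl⟩ : ∃ i, d = t₀ - i := ⟨t₀ - d, by ring⟩
  refine congrArg Subtype.val ((Module.forall_dual_apply_eq_zero_iff (GrLC.deg0 𝒜)
    (⟨ξ, hξ⟩ : GrLC.comp 𝒜 ℋ (t₀ - i))).1 fun Z ↦ ?_)
  obtain ⟨α, hα, hrep⟩ := exists_rep hstd hq P hk₁ hk₂ hx hy hxreg hxy hsurj i Z
  rw [hpos i (by omega), AddSubgroup.mem_bot] at hα
  by_contra hne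
  have h1 := hrep ⟨ξ, hξ⟩
  rw [hα, zero_smul] at h1
  obtain ⟨c, hc⟩ := h0.mul_inv_cancel hne
  exact P.ne_zero (by rw [← one_smul (GrLC.deg0 𝒜) u, ← hc, mul_comm, mul_smul, ← h1, smul_zero])

include hpos h0 hstd hq P hk₁ hk₂ hx hy hxreg hxy hsurj in
/-- The homogeneous socle is the line in the socle degree. -/
theorem socle {m : HomogeneousIdeal 𝒜}
    (hmsp : m.toIdeal = Ideal.span (⋃ n ∈ Set.Ioi (0 : ℤ), (𝒜 n : Set R))) {d : ℤ} {ξ : H}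
    (hξ : ξ ∈ ℋ d) (hsoc : ∀ a ∈ m.toIdeal, a • ξ = 0) : ∃ c : GrLC.deg0 𝒜, ξ = c • u := by
  letI := h0.toField
  rcases lt_trichotomy d t₀ with hlt | rfl | hgt
  · refine ⟨0, ?_⟩
    rw [zero_smul]
    obtain ⟨i, rfl⟩ : ∃ i, d = t₀ - i := ⟨t₀ - d, by ring⟩
    refine congrArg Subtype.val ((Module.forall_dual_apply_eq_zero_iff (GrLC.deg0 𝒜)
      (⟨ξ, hξ⟩ : GrLC.comp 𝒜 ℋ (t₀ - i))).1 fun Z ↦ ?_)
    obtain ⟨α, hα, hrep⟩ := exists_rep hstd hq P hk₁ hk₂ hx hy hxreg hxy hsurj i Z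
    by_contra hne
    have h1 := hrep ⟨ξ, hξ⟩
    rw [hsoc α (hmsp ▸ Ideal.subset_span (Set.mem_iUnion₂.2 ⟨i, by simp only [Set.mem_Ioi]; omega, hα⟩))] at h1
    obtain ⟨c, hc⟩ := h0.mul_inv_cancel hne
    exact P.ne_zero (by rw [← one_smul (GrLC.deg0 𝒜) u, ← hc, mul_comm, mul_smul, ← h1, smul_zero])
  · exact P.line ξ hξ
  · exact ⟨0, by rw [eq_zero_of_lt hpos h0 hstd hq P hk₁ hk₂ hx hy hxreg hxy hsurj hgt hξ, zero_smul]⟩

end Groth.Agent.H19.Veronese.Rep
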