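import Groth.Agent.H19.Veronese.Gorenstein
import Groth.Agent.Lib.Graded.Pieces
import Mathlib.LinearAlgebra.Dual.Lemmas

/-!
# The type of a Veronese subring of a standard graded Gorenstein ring
-/

set_option autoImplicit false
set_option linter.unusedSectionVars false
set_option linter.overlappingInstances false
set_option linter.style.haveILetI false

universe u

open CategoryTheory RingTheory.Sequence IsLocalRing
open Groth.Agent.Lib Groth.Agent.Lib.Graded Groth.Agent.Lib.Graded.Basic Groth.Agent.Lib.Graded.StarInj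

namespace Groth.Agent.H19.Veronese.Standard

variable {R : Type u} [CommRing R] {𝒜 : ℤ → AddSubgroup R} [GradedRing 𝒜]

/-- In a standard graded ring a multiplier condition in degree `q` spreads to higher degrees. -/
theorem mul_mem_of_le
    (hstd : Ideal.span (⋃ n ∈ Set.Ioi (0 : ℤ), (𝒜 n : Set R)) = Ideal.span ((𝒜 1 : AddSubgroup R) : Set R))
    {J : Ideal R} {z : R} {q : ℕ} (hq : 0 < q) (hz : ∀ r ∈ 𝒜 (q : ℤ), r * z ∈ J) :
    ∀ k : ℕ, ∀ r ∈ 𝒜 ((q : ℤ) + k), r * z ∈ J := by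
  intro k
  induction k with
  | zero => simpa using hz
  | succ k ih =>
    intro r hr
    have hmem : r ∈ Ideal.span ((𝒜 1 : AddSubgroup R) : Set R) :=
      hstd ▸ Ideal.subset_span (Set.mem_iUnion₂.2
        ⟨_, show (0 : ℤ) < (q : ℤ) + (k + 1 : ℕ) by omega, hr⟩)
    have key : ∀ y ∈ Ideal.span ((𝒜 1 : AddSubgroup R) : Set R), ∀ c : R,
        proj 𝒜 ((q : ℤ) + (k + 1 : ℕ)) (c * y) * z ∈ J := by
      intro y hy
      induction hy using Submodule.span_induction with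
      | mem x hx =>
        intro c
        rw [show c * x = c • x from rfl, proj_smul_mem 𝒜 𝒜 hx, smul_eq_mul, mul_assoc, mul_left_comm]
        refine J.mul_mem_left _ (ih _ ?_)
        have := proj_mem 𝒜 ((q : ℤ) + (k + 1 : ℕ) - 1) c
        rwa [show (q : ℤ) + (k + 1 : ℕ) - 1 = (q : ℤ) + k by push_cast; ring] at this ⊢
      | zero => intro c; rw [mul_zero, map_zero, zero_mul]; exact zero_mem _
      | add x y _ _ hx hy => intro c; rw [mul_add, map_add, add_mul]; exact add_mem (hx c) (hy c)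
      | smul a x _ hx => intro c; rw [smul_eq_mul, ← mul_assoc]; exact hx _
    have := key r hmem 1
    rwa [one_mul, proj_of_mem 𝒜 hr] at this

variable {R' : Type u} [CommRing R'] {𝒜' : ℤ → AddSubgroup R'} [GradedRing 𝒜'] {q : ℕ}
  {φ : R' →+* R} {m : HomogeneousIdeal 𝒜} {m' : HomogeneousIdeal 𝒜'}
  (h : IsVeronese 𝒜 𝒜' q φ) (hpos : ∀ n : ℤ, n < 0 → 𝒜 n = ⊥) (h0 : IsField (GrLC.deg0 𝒜))
  (hmsp : m.toIdeal = Ideal.span (⋃ n ∈ Set.Ioi (0 : ℤ), (𝒜 n : Set R)))
  (hstd : Ideal.span (⋃ n ∈ Set.Ioi (0 : ℤ), (𝒜 n : Set R)) = Ideal.span ((𝒜 1 : AddSubgroup R) : Set R))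
  (hm'sp : m'.toIdeal = Ideal.span (⋃ j ∈ Set.Ioi (0 : ℤ), (𝒜' j : Set R')))
  {n : ℕ} {a : ℤ} {f : Fin n → R} {deg : Fin n → ℤ} {s : ℤ} {w : R}
  (D : Socle.IsDatum 𝒜 m q a f deg s w) {ρ : ℤ} (hρ0 : 0 ≤ ρ) (hρq : ρ < q)
  (hρa : (q : ℤ) ∣ a - ρ)

include h hpos h0 hmsp hstd hm'sp D hρ0 hρq hρa in
/-- The socle of the reduction of the Veronese subring is dual to the piece of degree `ρ`. -/
theorem length_socle_eq_finrank [IsNoetherianRing R] {J' : Ideal R'}
    (hJ' : ∀ c, c ∈ J' ↔ φ c ∈ Ideal.span (Set.range f)) :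
    Module.length R' (LocCoh.torsionBy m'.toIdeal (R' ⧸ J')) =
      (Module.finrank (GrLC.deg0 𝒜) (GrLC.comp 𝒜 𝒜 ρ) : ℕ∞) := by
  classical
  letI := h0.toField
  let k := GrLC.deg0 𝒜
  let J : Ideal R := Ideal.span (Set.range f)
  let V := GrLC.comp 𝒜 𝒜 ρ
  let U := GrLC.comp 𝒜 𝒜 (s - ρ)
  let S := GrLC.comp 𝒜 𝒜 s
  have hqt : (q : ℤ) ∣ s - ρ := by
    simpa using dvd_add D.dvd hρa
  -- the coefficient on the socle
  have hex : ∀ x : S, ∃ c : k, (x : R) - (c : R) * w ∈ J := by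
    intro x
    by_cases hx : (x : R) ∈ J
    · exact ⟨0, by simpa using hx⟩
    have hsoc : ∀ c ∈ m.toIdeal, c * (x : R) ∈ J := by
      intro c hc
      rw [hmsp] at hc
      induction hc using Submodule.span_induction with
      | mem y hy =>
        obtain ⟨e, he, hye⟩ := Set.mem_iUnion₂.1 hy
        exact D.mem_of_lt hpos (by simp only [Set.mem_Ioi] at he; omega)
          (show y * (x : R) ∈ 𝒜 (e + s) from SetLike.mul_mem_graded hye x.2)
      | zero => simp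
      | add x y _ _ hx hy => rw [add_mul]; exact add_mem hx hy
      | smul c x _ hx => rw [smul_eq_mul, mul_assoc]; exact Ideal.mul_mem_left _ _ hx
    obtain ⟨-, c, hc, hcx⟩ := D.uniq s x.1 x.2 hsoc hx
    exact ⟨⟨c, hc⟩, hcx⟩
  have huni : ∀ c : k, (c : R) * w ∈ J → c = 0 := by
    intro c hc
    by_contra hc0
    obtain ⟨d, hd⟩ := h0.mul_inv_cancel hc0
    refine D.w_not_mem ?_
    have hd' : (c : R) * (d : R) = 1 := congrArg Subtype.val hd
    rw [show w = (d : R) * ((c : R) * w) by linear_combination -w * hd']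
    exact J.mul_mem_left _ hc
  choose χ hχ using hex
  have hχ_eq : ∀ (x : S) (c : k), (x : R) - (c : R) * w ∈ J → χ x = c := fun x c hc ↦ by
    refine sub_eq_zero.1 (huni _ ?_)
    rw [show ((χ x - c : k) : R) = (χ x : R) - (c : R) from rfl, sub_mul]
    simpa using sub_mem hc (hχ x)
  let mulS : V → U → S := fun x y ↦ ⟨x.1 * y.1, by
    show x.1 * y.1 ∈ 𝒜 s
    rw [show s = ρ + (s - ρ) by ring]
    exact SetLike.mul_mem_graded x.2 y.2⟩
  let B : V →ₗ[k] U →ₗ[k] k := LinearMap.mk₂ k (fun x y ↦ χ (mulS x y))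
    (fun x x' y ↦ hχ_eq _ _ (by
      show (x.1 + x'.1) * y.1 - ((_ : R) + (_ : R)) * w ∈ J
      rw [add_mul, add_mul, add_sub_add_comm]
      exact add_mem (hχ (mulS x y)) (hχ (mulS x' y))))
    (fun c x y ↦ hχ_eq _ _ (by
      show (c : R) * x.1 * y.1 - ((c : R) * (_ : R)) * w ∈ J
      rw [mul_assoc, mul_assoc, ← mul_sub]
      exact J.mul_mem_left _ (hχ (mulS x y))))
    (fun x y y' ↦ hχ_eq _ _ (by
      show x.1 * (y.1 + y'.1) - ((_ : R) + (_ : R)) * w ∈ J
      rw [mul_add, add_mul, add_sub_add_comm]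
      exact add_mem (hχ (mulS x y)) (hχ (mulS x y'))))
    (fun c x y ↦ hχ_eq _ _ (by
      show x.1 * ((c : R) * y.1) - ((c : R) * (_ : R)) * w ∈ J
      rw [mul_left_comm, mul_assoc (c : R) _ w, ← mul_sub]
      exact J.mul_mem_left _ (hχ (mulS x y))))
  have hB : ∀ (x : V) (y : U), B x y = 0 ↔ x.1 * y.1 ∈ J := fun x y ↦ by
    constructor
    · intro hxy
      have := hχ (mulS x y)
      rw [show χ (mulS x y) = 0 from hxy] at this
      simpa [mulS] using this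
    · intro hxy
      exact hχ_eq _ 0 (by simpa [mulS] using hxy)
  have hdeg : ∀ j, ρ < deg j := fun j ↦
    hρq.trans_le (Int.le_of_dvd (D.deg_pos j) (D.deg_dvd j))
  have hK : ∀ y : U, y ∈ LinearMap.ker B.flip ↔ y.1 ∈ J := fun y ↦ by
    rw [LinearMap.mem_ker]
    constructor
    · intro hy
      by_contra hyJ
      obtain ⟨r, hr, hry⟩ := D.exists_mul y.2 hyJ
      rw [sub_sub_cancel] at hr
      exact hry ((hB ⟨r, hr⟩ y).1 (LinearMap.congr_fun hy ⟨r, hr⟩))
    · intro hy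
      ext x
      exact congrArg Subtype.val ((hB x y).2 (J.mul_mem_left _ hy))
  have hVinj : ∀ x : V, (∀ y : U, B x y = 0) → x = 0 := fun x hx ↦ by
    by_contra hx0
    refine hx0 (Subtype.ext ?_)
    by_contra hne
    have hxJ : x.1 ∉ J := fun hxJ ↦ hne
      (Reduction.eq_zero_of_mem_span (hp := hpos) D.f_mem hdeg x.2 hxJ)
    obtain ⟨r, hr, hrx⟩ := D.exists_mul x.2 hxJ
    rw [mul_comm] at hrx
    exact hrx ((hB x ⟨r, hr⟩).1 (hx ⟨r, hr⟩))
  have : Module.Finite k V := by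
    have := Pieces.isNoetherian_comp (𝒜 := 𝒜) (ℳ := 𝒜) ρ
    infer_instance
  have : Module.Finite k U := by
    have := Pieces.isNoetherian_comp (𝒜 := 𝒜) (ℳ := 𝒜) (s - ρ)
    infer_instance
  let K := LinearMap.ker B.flip
  let B' : (U ⧸ K) →ₗ[k] Module.Dual k V := K.liftQ B.flip le_rfl
  have h1 : Module.finrank k (U ⧸ K) ≤ Module.finrank k V :=
    (LinearMap.finrank_le_finrank_of_injective (f := B')
      (LinearMap.ker_eq_bot.1 (Submodule.ker_liftQ_eq_bot' _ _ rfl))).trans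
      Subspace.dual_finrank_eq.le
  have h2 : Module.finrank k V ≤ Module.finrank k (U ⧸ K) :=
    (LinearMap.finrank_le_finrank_of_injective (f := B'.flip) ((injective_iff_map_eq_zero _).2
      fun x hx ↦ hVinj x fun y ↦ LinearMap.congr_fun hx (K.mkQ y))).trans
      Subspace.dual_finrank_eq.le
  show _ = (Module.finrank k V : ℕ∞)
  rw [← le_antisymm h1 h2, ← Module.length_eq_finrank]
  -- the comparison with the socle
  obtain ⟨π, hπ, hπlin⟩ := h.exists_retraction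
  have hπU : ∀ y : U, φ (π y.1) = y.1 := fun y ↦ by
    obtain ⟨b, -, hb⟩ := h.exists_preimage_of_dvd hqt y.2
    rw [← hb, hπ]
  have hUsoc : ∀ y : U, Ideal.Quotient.mk J' (π y.1) ∈ LocCoh.torsionBy m'.toIdeal (R' ⧸ J') := by
    intro y
    refine (Submodule.mem_torsionBySet_iff _ _).2 fun c ↦ Ideal.Quotient.eq_zero_iff_mem.2 ?_
    rw [hJ']
    show φ ((c : R') * π y.1) ∈ J
    rw [map_mul, hπU]
    obtain ⟨c, hc⟩ := c
    simp only
    rw [hm'sp] at hc
    induction hc using Submodule.span_induction with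
    | mem x hx =>
      obtain ⟨j, hj, hxj⟩ := Set.mem_iUnion₂.1 hx
      refine D.mem_of_lt hpos ?_ (SetLike.mul_mem_graded (h.map_mem hxj) y.2)
      have : (q : ℤ) ≤ j * q := le_mul_of_one_le_left (Int.natCast_nonneg q) hj
      omega
    | zero => simp
    | add x y _ _ hx hy => rw [map_add, add_mul]; exact add_mem hx hy
    | smul c x _ hx => rw [smul_eq_mul, map_mul, mul_assoc]; exact Ideal.mul_mem_left _ _ hx
  let Ψ : U →+ LocCoh.torsionBy m'.toIdeal (R' ⧸ J') :=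
    { toFun := fun y ↦ ⟨_, hUsoc y⟩
      map_zero' := Subtype.ext (by
        show Ideal.Quotient.mk J' (π 0) = 0
        rw [map_zero, map_zero])
      map_add' := fun y y' ↦ Subtype.ext (by
        show Ideal.Quotient.mk J' (π (y.1 + y'.1)) = _
        rw [map_add, map_add]
        rfl) }
  have hΨker : ∀ y, Ψ y = 0 ↔ y ∈ K := fun y ↦ by
    rw [hK, ← Submodule.coe_eq_zero]
    show Ideal.Quotient.mk J' (π y.1) = 0 ↔ _
    rw [Ideal.Quotient.eq_zero_iff_mem, hJ', hπU]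
  have hΨsurj : Function.Surjective Ψ := by
    rintro ⟨x, hx⟩
    obtain ⟨z, rfl⟩ := Ideal.Quotient.mk_surjective x
    have hz : ∀ c ∈ m'.toIdeal, φ (c * z) ∈ J := fun c hc ↦
      (hJ' _).1 (Ideal.Quotient.eq_zero_iff_mem.1 ((Submodule.mem_torsionBySet_iff _ _).1 hx ⟨c, hc⟩))
    have hi0 : (s - ρ) / (q : ℤ) * q = s - ρ := Int.ediv_mul_cancel hqt
    have hother : ∀ i, i ≠ (s - ρ) / (q : ℤ) → proj 𝒜' i z ∈ J' := by
      intro i hi
      by_contra hJ
      rw [hJ'] at hJ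
      obtain ⟨r, hr, hrx⟩ := D.exists_mul (h.map_mem (proj_mem 𝒜' i z)) hJ
      rcases lt_or_ge (s - i * q) 0 with hlt | hge
      · rw [hpos _ hlt, AddSubgroup.mem_bot] at hr
        exact hrx (by rw [hr, zero_mul]; exact zero_mem _)
      rcases lt_or_ge (s - i * q) q with hlt' | hge'
      · refine hi (mul_right_cancel₀ h.q_ne_zero ?_)
        rw [hi0]
        have hdvd : (q : ℤ) ∣ s - i * q - ρ := by
          rw [sub_right_comm]; exact dvd_sub hqt (dvd_mul_left _ _)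
        have := Int.eq_zero_of_abs_lt_dvd hdvd (abs_lt.2 ⟨by omega, by omega⟩)
        omega
      · obtain ⟨k', hk'⟩ := Int.le.dest hge'
        exact hrx (mul_mem_of_le hstd h.pos (fun r' hr' ↦ Gor.socle_proj h hm'sp D hz i _
          (by exact_mod_cast h.pos) dvd_rfl r' hr') k' r (by rwa [hk']))
    have hrest : z - proj 𝒜' ((s - ρ) / q) z ∈ J' := by
      have hsum : ∑ i ∈ supp 𝒜' z, proj 𝒜' i z = z := sum_proj 𝒜' z
      by_cases hmem : (s - ρ) / (q : ℤ) ∈ supp 𝒜' z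
      · rw [show z - proj 𝒜' ((s - ρ) / q) z = ∑ i ∈ (supp 𝒜' z).erase ((s - ρ) / q), proj 𝒜' i z from
          (Finset.sum_erase_eq_sub (f := fun i ↦ proj 𝒜' i z) hmem |>.trans
            (congrArg (· - proj 𝒜' ((s - ρ) / q) z) hsum)).symm]
        exact sum_mem fun i hi ↦ hother i (Finset.mem_erase.1 hi).1
      · have hz0 : proj 𝒜' ((s - ρ) / q) z = 0 := by
          by_contra hne; exact hmem ((mem_supp 𝒜').2 hne)
        rw [hz0, sub_zero, ← hsum]
        exact sum_mem fun i hi ↦ hother i fun hc ↦ hmem (hc ▸ hi)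
    have hyU : φ (proj 𝒜' ((s - ρ) / q) z) ∈ U := by
      show _ ∈ 𝒜 (s - ρ)
      simpa [hi0] using h.map_mem (proj_mem 𝒜' ((s - ρ) / q) z)
    refine ⟨⟨_, hyU⟩, Subtype.ext ?_⟩
    show Ideal.Quotient.mk J' (π (φ _)) = Ideal.Quotient.mk J' z
    rw [hπ, eq_comm]
    exact Ideal.Quotient.eq.2 hrest
  let e₀ : (U ⧸ K) →+ LocCoh.torsionBy m'.toIdeal (R' ⧸ J') :=
    QuotientAddGroup.lift K.toAddSubgroup Ψ fun y hy ↦ (hΨker y).2 hy
  have he₀ : Function.Bijective e₀ := by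
    refine ⟨(injective_iff_map_eq_zero _).2 fun x hx ↦ ?_, fun x ↦ ?_⟩
    · obtain ⟨y, rfl⟩ := K.mkQ_surjective x
      exact (Submodule.Quotient.mk_eq_zero K).2 ((hΨker y).1 hx)
    · obtain ⟨y, rfl⟩ := hΨsurj x
      exact ⟨K.mkQ y, rfl⟩
  symm
  have hcomp : ∀ (c : k) (c' : R'), φ c' = c → ∀ x, e₀ (c • x) = c' • e₀ x := by
    intro c c' hc x
    obtain ⟨y, rfl⟩ := K.mkQ_surjective x
    refine Subtype.ext ?_
    show Ideal.Quotient.mk J' (π ((c : R) * y.1)) = Ideal.Quotient.mk J' c' * Ideal.Quotient.mk J' (π y.1)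
    rw [← hc, hπlin, map_mul]
  refine Local.length_congr (AddEquiv.ofBijective e₀ he₀) (fun c ↦ ?_) fun r ↦ ?_
  · obtain ⟨c', -, hc'⟩ := h.exists_preimage (j := 0) (r := c.1) (by rw [zero_mul]; exact c.2)
    exact ⟨c', hcomp c c' hc'⟩
  · refine ⟨⟨φ (proj 𝒜' 0 r), show _ ∈ 𝒜 0 by
      simpa using h.map_mem (proj_mem 𝒜' 0 r)⟩, fun x ↦ ?_⟩
    show e₀ _ = r • e₀ x
    rw [hcomp _ _ rfl x]
    refine (sub_eq_zero.1 ((sub_smul r (proj 𝒜' 0 r) (e₀ x)).symm.trans ?_)).symm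
    refine Subtype.ext ((Submodule.mem_torsionBySet_iff _ _).1 (e₀ x).2 ⟨r - proj 𝒜' 0 r, ?_⟩)
    rw [SetLike.mem_coe, FieldDeg0.mem_iff (h.eq_zero_of_neg hpos) (h.isField_deg0 h0) hm'sp, map_sub,
      proj_of_mem 𝒜' (proj_mem 𝒜' 0 r), sub_self]

include h hpos h0 hmsp hstd hm'sp D hρ0 hρq hρa in
/-- The type of the Veronese subring. -/
theorem bassNum_eq [IsNoetherianRing R] [m'.toIdeal.IsMaximal] :
    GrLC.bassNum m'.toIdeal R' n = (Module.finrank (GrLC.deg0 𝒜) (GrLC.comp 𝒜 𝒜 ρ) : ℕ∞) := by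
  have := h.isNoetherianRing
  obtain ⟨L, hlen, hLm, hreg, hJ', N, hN⟩ := Gor.exists_reduction h hpos h0 hmsp hm'sp D
  rw [Gor.eq_localization h hm'sp n, ← hlen, (Local.length_ext m'.toIdeal L hLm hreg hN).2.1]
  exact length_socle_eq_finrank h hpos h0 hmsp hstd hm'sp D hρ0 hρq hρa hJ'

end Groth.Agent.H19.Veronese.Standard
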